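import Mathlib.GroupTheory.QuotientGroup.Basic
import Mathlib.GroupTheory.Index
import Mathlib.Data.ZMod.QuotientGroup
import Mathlib.LinearAlgebra.FreeModule.Basic
import Mathlib.Tactic.Abel
import Mathlib.Tactic.Ring
import Mathlib.Data.ZMod.Basic

/-!
# Counting torsion and cotorsion in a right exact sequence of abelian groups
-/

set_option autoImplicit false

universe u v w

namespace Groth.Agent.CurveOpen32

variable {A P Q : Type*} [AddCommGroup A] [AddCommGroup P] [AddCommGroup Q]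

/-- The cardinality of the middle of an exact sequence. -/
theorem card_of_exact {X : Type*} [AddCommGroup X] {Y : Type*} [AddCommGroup Y] {Z : Type*} [AddCommGroup Z]
    (f : X →+ Y) (g : Y →+ Z) (hg : Function.Surjective g) (he : g.ker = f.range) :
    Nat.card Y = Nat.card (X ⧸ f.ker) * Nat.card Z := by
  rw [AddSubgroup.card_eq_card_quotient_mul_card_addSubgroup g.ker,
    Nat.card_congr (QuotientAddGroup.quotientKerEquivOfSurjective g hg).toEquiv, mul_comm, he,
    Nat.card_congr (QuotientAddGroup.quotientKerEquivRange f).toEquiv]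

/-- The multiples of `n`. -/
abbrev nMul (n : ℕ) (G : Type*) [AddCommGroup G] : AddSubgroup G := (n • AddMonoidHom.id G).range

theorem mem_nMul {n : ℕ} {G : Type*} [AddCommGroup G] {x : G} : x ∈ nMul n G ↔ ∃ y, n • y = x := Iff.rfl

/-- The `n`-torsion. -/
abbrev nTor (n : ℕ) (G : Type*) [AddCommGroup G] : AddSubgroup G := (n • AddMonoidHom.id G).ker

theorem mem_nTor {n : ℕ} {G : Type*} [AddCommGroup G] {x : G} : x ∈ nTor n G ↔ n • x = 0 := Iff.rfl

/-- For `A → P → Q → 0` exact with `A` torsion free and `Q` divisible by `n`. -/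
theorem card_torsion_mul (φ : A →+ P) (π : P →+ Q) (hπ : Function.Surjective π) (he : π.ker = φ.range) (n : ℕ)
    (hA : ∀ a : A, n • a = 0 → a = 0) (hQ : ∀ q : Q, ∃ q', n • q' = q) :
    Nat.card (nTor n Q) * Nat.card (φ.ker ⧸ nMul n φ.ker) * Nat.card (P ⧸ nMul n P) =
      Nat.card (nTor n P) * Nat.card (A ⧸ nMul n A) := by
  let G : AddSubgroup (P × A) :=
    ((n • AddMonoidHom.id P).comp (AddMonoidHom.fst P A) - φ.comp (AddMonoidHom.snd P A)).ker
  have hG : ∀ x : P × A, x ∈ G ↔ n • x.1 = φ x.2 := fun x => by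
    rw [AddMonoidHom.mem_ker]
    exact sub_eq_zero
  have hπφ : ∀ b, π (φ b) = 0 := fun b => by
    have h : φ b ∈ π.ker := by rw [he]; exact ⟨b, rfl⟩
    exact h
  let ν : A →+ G := (φ.prod (n • AddMonoidHom.id A)).codRestrict G fun b => (hG _).2 (by simp)
  let αG : G →+ nTor n Q := (π.comp ((AddMonoidHom.fst P A).comp G.subtype)).codRestrict _ fun x => by
    show n • π x.1.1 = 0
    rw [← map_nsmul, (hG x.1).1 x.2]
    exact hπφ x.1.2
  let α : G ⧸ ν.range →+ nTor n Q := QuotientAddGroup.lift _ αG (by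
    rintro _ ⟨b, rfl⟩
    exact Subtype.ext (hπφ b))
  let φb : A ⧸ nMul n A →+ P ⧸ nMul n P := QuotientAddGroup.map _ _ φ (by
    rintro _ ⟨b, rfl⟩
    exact ⟨φ b, (map_nsmul φ n b).symm⟩)
  let βG : G →+ φb.ker := ((QuotientAddGroup.mk' (nMul n A)).comp ((AddMonoidHom.snd P A).comp G.subtype)).codRestrict _
    fun x => (QuotientAddGroup.eq_zero_iff _).2 ⟨x.1.1, (hG x.1).1 x.2⟩
  let β : G ⧸ ν.range →+ φb.ker := QuotientAddGroup.lift _ βG (by
    rintro _ ⟨b, rfl⟩
    exact Subtype.ext ((QuotientAddGroup.eq_zero_iff _).2 ⟨b, rfl⟩))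
  let μL : φ.ker →+ G ⧸ ν.range := (QuotientAddGroup.mk' ν.range).comp
    (((0 : φ.ker →+ P).prod φ.ker.subtype).codRestrict G fun l => (hG _).2 (by simp [AddMonoidHom.mem_ker.1 l.2]))
  let μP : nTor n P →+ G ⧸ ν.range := (QuotientAddGroup.mk' ν.range).comp
    (((nTor n P).subtype.prod (0 : nTor n P →+ A)).codRestrict G fun p => (hG _).2 (by
      simpa using mem_nTor.1 p.2))
  have hα : Function.Surjective α := by
    rintro ⟨q, hq⟩
    obtain ⟨c, rfl⟩ := hπ q
    have h1 : n • c ∈ π.ker := AddMonoidHom.mem_ker.2 (by rw [map_nsmul]; exact mem_nTor.1 hq)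
    rw [he] at h1
    obtain ⟨a, ha⟩ := h1
    exact ⟨QuotientAddGroup.mk ⟨(c, a), (hG _).2 ha.symm⟩, Subtype.ext rfl⟩
  have hβ : Function.Surjective β := by
    rintro ⟨x, hx⟩
    obtain ⟨a, rfl⟩ := QuotientAddGroup.mk_surjective x
    obtain ⟨c, hc⟩ := (QuotientAddGroup.eq_zero_iff _).1 (AddMonoidHom.mem_ker.1 hx)
    exact ⟨QuotientAddGroup.mk ⟨(c, a), (hG _).2 hc⟩, Subtype.ext rfl⟩
  have heα : α.ker = μL.range := by
    ext x
    obtain ⟨⟨⟨c, a⟩, hx⟩, rfl⟩ := QuotientAddGroup.mk_surjective x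
    constructor
    · intro h
      have h1 : c ∈ π.ker := congrArg Subtype.val (AddMonoidHom.mem_ker.1 h)
      rw [he] at h1
      obtain ⟨b, rfl⟩ := h1
      have hl : φ (a - n • b) = 0 := by
        rw [map_sub, map_nsmul, ← (hG _).1 hx, sub_self]
      refine ⟨⟨a - n • b, hl⟩, (QuotientAddGroup.eq).2 ⟨b, Subtype.ext (Prod.ext ?_ ?_)⟩⟩
      · show φ b = -0 + φ b
        rw [neg_zero, zero_add]
      · show n • b = -(a - n • b) + a
        abel
    · rintro ⟨l, hl⟩
      rw [← hl]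
      exact Subtype.ext (map_zero π)
  have heβ : β.ker = μP.range := by
    ext x
    obtain ⟨⟨⟨c, a⟩, hx⟩, rfl⟩ := QuotientAddGroup.mk_surjective x
    constructor
    · intro h
      obtain ⟨b, hb⟩ := (QuotientAddGroup.eq_zero_iff _).1 (congrArg Subtype.val (AddMonoidHom.mem_ker.1 h))
      have hb' : n • b = a := hb
      have hl : n • (c - φ b) = 0 := by
        rw [smul_sub, ← map_nsmul, hb']
        exact sub_eq_zero.2 ((hG _).1 hx)
      refine ⟨⟨c - φ b, hl⟩, (QuotientAddGroup.eq).2 ⟨b, Subtype.ext (Prod.ext ?_ ?_)⟩⟩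
      · show φ b = -(c - φ b) + c
        abel
      · show n • b = -0 + a
        rw [neg_zero, zero_add, hb']
    · rintro ⟨p, hp⟩
      rw [← hp]
      exact Subtype.ext ((QuotientAddGroup.eq_zero_iff _).2 (zero_mem _))
  have hμL : μL.ker = nMul n φ.ker := by
    ext l
    constructor
    · intro h
      obtain ⟨b, hb⟩ := (QuotientAddGroup.eq_zero_iff _).1 (AddMonoidHom.mem_ker.1 h)
      have hb1 : φ b = 0 := congrArg (fun z : G => z.1.1) hb
      exact ⟨⟨b, hb1⟩, Subtype.ext (congrArg (fun z : G => z.1.2) hb)⟩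
    · rintro ⟨m, rfl⟩
      refine AddMonoidHom.mem_ker.2 ((QuotientAddGroup.eq_zero_iff _).2 ⟨m.1, Subtype.ext (Prod.ext ?_ ?_)⟩)
      · exact AddMonoidHom.mem_ker.1 m.2
      · rfl
  have hμP : μP.ker = ⊥ := by
    refine (AddSubgroup.eq_bot_iff_forall _).2 fun p hp => ?_
    obtain ⟨b, hb⟩ := (QuotientAddGroup.eq_zero_iff _).1 (AddMonoidHom.mem_ker.1 hp)
    have hb0 : b = 0 := hA b (congrArg (fun z : G => z.1.2) hb)
    refine Subtype.ext ?_
    have h1 : φ b = (p : P) := congrArg (fun z : G => z.1.1) hb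
    rw [← h1, hb0, map_zero]
    rfl
  have hφb : Function.Surjective φb := fun x => by
    obtain ⟨c, rfl⟩ := QuotientAddGroup.mk_surjective x
    obtain ⟨q', hq'⟩ := hQ (π c)
    obtain ⟨c', rfl⟩ := hπ q'
    obtain ⟨a, ha⟩ : c - n • c' ∈ φ.range := by
      rw [← he, AddMonoidHom.mem_ker, map_sub, map_nsmul, hq', sub_self]
    refine ⟨QuotientAddGroup.mk a, (QuotientAddGroup.eq).2 ⟨c', ?_⟩⟩
    show n • c' = -φ a + c
    rw [ha]
    abel
  have h1 := card_of_exact μL α hα heα
  rw [hμL] at h1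
  have h2 := card_of_exact μP β hβ heβ
  rw [hμP, Nat.card_congr QuotientAddGroup.quotientBot.toEquiv] at h2
  have h3 := card_of_exact φb.ker.subtype φb hφb (by rw [AddSubgroup.range_subtype])
  rw [AddSubgroup.ker_subtype, Nat.card_congr QuotientAddGroup.quotientBot.toEquiv] at h3
  rw [h3, mul_comm (Nat.card (nTor n Q)), ← h1, h2]
  ring

/-- A free group of rank `r` modulo `n`. -/
theorem card_fun_quot {ι : Type*} [Finite ι] (n : ℕ) [NeZero n] :
    Nat.card ((ι → ℤ) ⧸ nMul n (ι → ℤ)) = n ^ Nat.card ι := by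
  classical
  haveI := Fintype.ofFinite ι
  let f : (ι → ℤ) →+ (ι → ZMod n) :=
    { toFun := fun a i => (a i : ZMod n), map_zero' := funext fun i => Int.cast_zero,
      map_add' := fun a b => funext fun i => Int.cast_add _ _ }
  have hf : Function.Surjective f := fun c => ⟨fun i => (c i).val, funext fun i => by
    show (((c i).val : ℤ) : ZMod n) = c i
    rw [Int.cast_natCast, ZMod.natCast_zmod_val]⟩
  have hk : f.ker = nMul n (ι → ℤ) := by
    ext a
    constructor
    · intro h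
      refine ⟨fun i => a i / n, funext fun i => ?_⟩
      show n • (a i / (n : ℤ)) = a i
      rw [nsmul_eq_mul]
      exact Int.mul_ediv_cancel' ((ZMod.intCast_zmod_eq_zero_iff_dvd _ n).1 (congrFun h i))
    · rintro ⟨b, rfl⟩
      refine funext fun i => ?_
      show (((n • b i : ℤ)) : ZMod n) = 0
      rw [nsmul_eq_mul, Int.cast_mul, Int.cast_natCast, ZMod.natCast_self, zero_mul]
  rw [← hk, Nat.card_congr (QuotientAddGroup.quotientKerEquivOfSurjective f hf).toEquiv, Nat.card_fun, Nat.card_zmod]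

end Groth.Agent.CurveOpen32
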