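import Groth.Agent.Lib.CdField3.PicAffine

/-!
# Divisors, units and the Picard group of a normal curve
-/

set_option autoImplicit false
set_option linter.style.haveILetI false
set_option linter.unusedSectionVars false
set_option maxHeartbeats 2000000
set_option backward.isDefEq.respectTransparency.types false

universe u

open CategoryTheory AlgebraicGeometry TopologicalSpace

noncomputable section

namespace Groth.Agent.CurveOpen32

open Groth.Agent FunFldRH25

noncomputable local instance instLawDiv32 (Y : Scheme.{u}) : PicGrp.Law Y := M2.law Y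

variable (U : Scheme.{u}) [IsIntegral U] [IsNoetherian U]

/-- The points of a curve other than the generic one. -/
abbrev Pt : Type u := {x : U // x ≠ genericPoint U}

variable {U}

open scoped Classical in
/-- The cycle of a divisor. -/
def cyc (D : Pt U →₀ ℤ) : AlgebraicCycle U ℤ :=
  { toFun := fun x => if h : x ≠ genericPoint U then D ⟨x, h⟩ else 0
    supportWithinDomain' := Set.subset_univ _
    supportLocallyFiniteWithinDomain' := fun _ _ => ⟨Set.univ, Filter.univ_mem,
      (D.support.finite_toSet.image Subtype.val).subset fun x hx => by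
        obtain ⟨-, hx⟩ := hx
        rw [Function.mem_support] at hx
        by_cases h : x ≠ genericPoint U
        · rw [dif_pos h] at hx
          exact ⟨⟨x, h⟩, Finsupp.mem_support_iff.2 hx, rfl⟩
        · exact absurd (dif_neg h) hx⟩ }

theorem cyc_apply (D : Pt U →₀ ℤ) (x : Pt U) : cyc D x.1 = D x := by
  classical
  exact dif_pos x.2

theorem ord_unit (f : (U.functionField)ˣ) : (f : U.functionField) ≠ 0 := f.ne_zero

variable (hX : Pi1.IsNormalScheme U) (hd : topologicalKrullDim U = 1)

include hX hd in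
theorem finite_ord_ne_zero (f : (U.functionField)ˣ) :
    (Function.support fun x : Pt U => Scheme.ord (f : U.functionField) x.1).Finite := by
  have hr := RH26.R1.structureModule hX
  have h1 : RH26.str (genericPoint U) (1 : U.functionField) ≠ 0 := RH26.str_one_ne_zero
  obtain ⟨E, -, hE⟩ := hr.exists_cycle (hr.smul_ne_zero f.ne_zero h1)
  refine (((E.locallyFiniteSupport.finite_inter_support_of_isCompact isCompact_univ).preimage
    Subtype.val_injective.injOn)).subset fun x hx => ⟨trivial, ?_⟩
  have hx1 := coheight_one_of_ne hd x.2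
  show E x.1 ≠ 0
  rw [hE _ hx1, hr.ordv_smul hx1 f.ne_zero h1, RH26.ordv_structure_one hX hx1, add_zero]
  exact hx

/-- The divisor of a function. -/
def divHom : Additive (U.functionField)ˣ →+ (Pt U →₀ ℤ) :=
  AddMonoidHom.mk' (fun f => Finsupp.ofSupportFinite _ (finite_ord_ne_zero hX hd f.toMul))
    fun f g => Finsupp.ext fun x => Scheme.ord_mul (x := x.1) f.toMul.ne_zero g.toMul.ne_zero

theorem divHom_apply (f : (U.functionField)ˣ) (x : Pt U) :
    divHom hX hd (Additive.ofMul f) x = Scheme.ord (f : U.functionField) x.1 := rfl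

theorem isInvertible_od (D : Pt U →₀ ℤ) : RH26.R1 (RH26.od hX (cyc D)) := RH26.r1_od

include hd in
theorem inv_od (D : Pt U →₀ ℤ) : PicF.IsInvertible (RH26.od hX (cyc D)) := by
  have hr : RH26.R1 (RH26.od hX (cyc D)) := RH26.r1_od
  refine RH26.isInvertible_of_gen hr.coh fun x => ?_
  by_cases hx : x = genericPoint U
  · subst hx; exact hr.gen
  · obtain ⟨g, hg, -⟩ := hr.gen_one (coheight_one_of_ne hd hx)
    exact ⟨g, hg⟩

/-- The class of a divisor. -/
def clsDiv (D : Pt U →₀ ℤ) : PicLoc.PicSet U := PicGrp.cls (RH26.od hX (cyc D)) (inv_od hX hd D)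

theorem ordv_od (D : Pt U →₀ ℤ) {x : U} (hx : Order.coheight x = 1) :
    RH26.ordv (RH26.od hX (cyc D)) x (RH26.oneη hX (cyc D)) = D ⟨x, ne_of_coheight_one hx⟩ := by
  rw [RH26.ordv_oneη hx]
  exact cyc_apply D ⟨x, ne_of_coheight_one hx⟩

theorem cls_eq_clsDiv_iff {L : U.Modules} (hL : PicF.IsInvertible L) (D : Pt U →₀ ℤ)
    {a : L.presheaf.stalk (genericPoint U)} (ha : a ≠ 0)
    (h : ∀ (x : U) (hx : Order.coheight x = 1), RH26.ordv L x a = D ⟨x, ne_of_coheight_one hx⟩) :
    PicGrp.cls L hL = clsDiv hX hd D :=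
  Subtype.ext ((PicGrp.cl_eq_cl_iff _ _).2 ((r1_of_invertible hd hX hL).nonempty_iso (RH26.r1_od) ha
    RH26.oneη_ne_zero fun x hx => (h x hx).trans (ordv_od hX D hx).symm))

theorem clsDiv_add (D E : Pt U →₀ ℤ) : clsDiv hX hd (D + E) = clsDiv hX hd D * clsDiv hX hd E := by
  have hfz : ∀ {F : U.Modules} {v : F.presheaf.stalk (genericPoint U)}, v ≠ 0 → Cyc26.fmk F _ v ≠ 0 :=
    fun hv h0 => hv (RH26.fmk_injective (h0.trans rfl))
  obtain ⟨w, hw, hwo⟩ := S16092.result U _ _ (inv_od hX hd D) (inv_od hX hd E) _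
    (hfz (RH26.oneη_ne_zero (hX := hX) (D := cyc D))) _ (hfz (RH26.oneη_ne_zero (hX := hX) (D := cyc E)))
  obtain ⟨w, rfl⟩ := RH26.exists_fmk w
  rw [show clsDiv hX hd D * clsDiv hX hd E = PicGrp.cls _ (M2.isInvertible_tensor (inv_od hX hd D) (inv_od hX hd E))
    from AlgEquiv22.cls_tensor _ _]
  refine (cls_eq_clsDiv_iff hX hd _ (D + E) (a := w) (fun h0 => hw (by rw [h0]; rfl)) fun x hx => ?_).symm
  rw [Finsupp.add_apply, ← ordv_od hX D hx, ← ordv_od hX E hx]
  exact hwo x ((RH26.dim_eq_one_iff x).2 hx)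

/-- Divisors to classes. -/
def clsHom : (Pt U →₀ ℤ) →+ Additive (PicLoc.PicSet U) :=
  AddMonoidHom.mk' (fun D => Additive.ofMul (clsDiv hX hd D)) fun D E => congrArg Additive.ofMul (clsDiv_add hX hd D E)

theorem clsHom_surjective : Function.Surjective (clsHom hX hd) := fun c => by
  classical
  obtain ⟨L, hL, hc⟩ := PicGrp.exists_eq_cls c.toMul
  have hr := r1_of_invertible hd hX hL
  obtain ⟨a, ha⟩ := hr.exists_ne_zero
  obtain ⟨E, -, hE⟩ := hr.exists_cycle ha
  have hfin : (Function.support fun x : Pt U => E x.1).Finite :=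
    ((E.locallyFiniteSupport.finite_inter_support_of_isCompact isCompact_univ).preimage
      Subtype.val_injective.injOn).subset fun x hx => ⟨trivial, hx⟩
  refine ⟨Finsupp.ofSupportFinite _ hfin, ?_⟩
  show Additive.ofMul (clsDiv hX hd _) = c
  rw [← cls_eq_clsDiv_iff hX hd hL (Finsupp.ofSupportFinite _ hfin) ha fun x hx => (hE x hx).symm, ← hc, ofMul_toMul]

theorem clsHom_eq_zero_iff (D : Pt U →₀ ℤ) : clsHom hX hd D = 0 ↔ D ∈ (divHom hX hd).range := by
  have hO := PicLoc.isInvertible_structureModule U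
  have h1 : RH26.str (genericPoint U) (1 : U.functionField) ≠ 0 := RH26.str_one_ne_zero
  have hrO := RH26.R1.structureModule hX
  have h1cls : PicGrp.cls (Coh.structureModule U) hO = 1 := (PicGrp.cls_eq_one_iff hO).2 ⟨Iso.refl _⟩
  constructor
  · intro h
    have h' : clsDiv hX hd D = PicGrp.cls (Coh.structureModule U) hO := by
      rw [h1cls]; exact congrArg Additive.toMul h
    obtain ⟨i⟩ := (PicGrp.cl_eq_cl_iff _ _).1 (congrArg Subtype.val h')
    obtain ⟨r, hr⟩ := (RH26.str (genericPoint U)).surjective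
      (RefHull.stalkMapₗ i.hom (genericPoint U) (RH26.oneη hX (cyc D)))
    have hr0 : (r : U.functionField) ≠ 0 := fun h0 =>
      RH26.R1.map_ne_zero i RH26.oneη_ne_zero (hr.symm.trans (by rw [show r = 0 from h0, map_zero]))
    refine ⟨Additive.ofMul (Units.mk0 (r : U.functionField) hr0), Finsupp.ext fun x => ?_⟩
    have hx := coheight_one_of_ne hd x.2
    have h2 := (RH26.r1_od (hX := hX) (D := cyc D)).ordv_map i hx RH26.oneη_ne_zero
    rw [← hr, show RH26.str (genericPoint U) r = (r : U.functionField) • RH26.str (genericPoint U) (1 : U.functionField)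
      from by rw [← (RH26.str (genericPoint U)).map_smul]; exact congrArg _ (mul_one r).symm,
      hrO.ordv_smul hx hr0 h1, RH26.ordv_structure_one hX hx, add_zero, ordv_od hX D hx] at h2
    exact h2
  · rintro ⟨f, rfl⟩
    show Additive.ofMul (clsDiv hX hd _) = 0
    rw [← cls_eq_clsDiv_iff hX hd hO _ (hrO.smul_ne_zero f.toMul.ne_zero h1) fun x hx => by
      rw [hrO.ordv_smul hx f.toMul.ne_zero h1, RH26.ordv_structure_one hX hx, add_zero]
      rfl, h1cls, ofMul_one]

include hX hd in
theorem exists_section_of_ord_nonneg {f : U.functionField} (hf : f ≠ 0)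
    (h : ∀ x : Pt U, 0 ≤ Scheme.ord f x.1) :
    ∃ r : Γ(U, ⊤), U.presheaf.germ ⊤ (genericPoint U) trivial r = f := by
  obtain ⟨s, hs⟩ := RH26.exists_section_of_inStalk (F := Coh.structureModule U) ⊤
    (fun y _ => (RH26.closed1_structure hX).1 y) (RH26.str (genericPoint U) f) fun y _ => by
      by_cases hy : y = genericPoint U
      · subst hy
        exact ⟨RH26.str (genericPoint U) f,
          (ConcreteCategory.congr_hom (TopCat.Presheaf.stalkSpecializes_refl _ _) _).trans rfl⟩
      · obtain ⟨b, hb⟩ := (RH26.inStalk_function_iff hX (coheight_one_of_ne hd hy) hf).2 (h ⟨y, hy⟩)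
        refine ⟨RH26.str y b, ?_⟩
        rw [RH26.str_apply, Cyc26.stalkSpecializes_smul_one, hb]
        rfl
  refine ⟨s, (RH26.str (genericPoint U)).injective ?_⟩
  rw [RH26.str_one_germ]
  have h2 := hs (genericPoint U) trivial
  rw [TopCat.Presheaf.germ_stalkSpecializes_apply] at h2
  exact h2

/-- The global units inside the function field. -/
def unitsHom : Γ(U, ⊤)ˣ →* (U.functionField)ˣ :=
  Units.map (U.presheaf.germ ⊤ (genericPoint U) trivial).hom.toMonoidHom

theorem unitsHom_injective : Function.Injective (unitsHom (U := U)) :=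
  Units.map_injective (germ_injective_of_isIntegral U (genericPoint U) (show genericPoint U ∈ (⊤ : U.Opens) from trivial))

theorem mem_range_unitsHom_iff (f : (U.functionField)ˣ) :
    f ∈ (unitsHom (U := U)).range ↔ divHom hX hd (Additive.ofMul f) = 0 := by
  constructor
  · rintro ⟨r, rfl⟩
    refine Finsupp.ext fun x => ?_
    have hx := coheight_one_of_ne hd x.2
    have key : ∀ s : Γ(U, ⊤), (U.presheaf.germ ⊤ (genericPoint U) trivial s : U.functionField) ≠ 0 →
        0 ≤ Scheme.ord (U.presheaf.germ ⊤ (genericPoint U) trivial s : U.functionField) x.1 := fun s hs =>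
      (RH26.inStalk_function_iff hX hx hs).1 ⟨U.presheaf.germ ⊤ x.1 trivial s,
        TopCat.Presheaf.germ_stalkSpecializes_apply _ _ _ _⟩
    have h1 := key r.1 ((unitsHom r).ne_zero)
    have h2 := key (r⁻¹ : Γ(U, ⊤)ˣ).1 ((unitsHom r⁻¹).ne_zero)
    have h3 : Scheme.ord ((unitsHom r : (U.functionField)ˣ) : U.functionField) x.1 +
        Scheme.ord ((unitsHom r⁻¹ : (U.functionField)ˣ) : U.functionField) x.1 = 0 := by
      rw [← Scheme.ord_mul (unitsHom r).ne_zero (unitsHom r⁻¹).ne_zero, ← Units.val_mul, ← map_mul,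
        mul_inv_cancel, map_one, Units.val_one]
      exact RH26.ord_one _
    show Scheme.ord ((unitsHom r : (U.functionField)ˣ) : U.functionField) x.1 = 0
    have h1' : 0 ≤ Scheme.ord ((unitsHom r : (U.functionField)ˣ) : U.functionField) x.1 := h1
    have h2' : 0 ≤ Scheme.ord ((unitsHom r⁻¹ : (U.functionField)ˣ) : U.functionField) x.1 := h2
    omega
  · intro h
    have h0 : ∀ x : Pt U, Scheme.ord (f : U.functionField) x.1 = 0 := fun x => DFunLike.congr_fun h x
    obtain ⟨r, hr⟩ := exists_section_of_ord_nonneg hX hd f.ne_zero fun x => (h0 x).ge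
    obtain ⟨s, hs⟩ := exists_section_of_ord_nonneg hX hd (f⁻¹).ne_zero fun x => by
      rw [Units.val_inv_eq_inv_val, RH26.ord_inv f.ne_zero, h0 x, neg_zero]
    have hrs : r * s = 1 := germ_injective_of_isIntegral U (genericPoint U) (show genericPoint U ∈ (⊤ : U.Opens) from trivial) (by
      rw [map_mul, map_one, hr, hs]
      exact f.mul_inv)
    exact ⟨Units.mkOfMulEqOne r s hrs, Units.ext hr⟩

end Groth.Agent.CurveOpen32
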