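import Groth.Agent.Lib.CurveOpen32.Main
import Groth.Agent.Lib.CurveFin32.Main
import Groth.Agent.Lib.Kummer24.MuConst
import Groth.Agent.S0204

/-!
# Finiteness of cohomology of separated curves, away from the characteristic
-/

set_option autoImplicit false
set_option linter.style.haveILetI false
set_option linter.unusedSectionVars false
set_option backward.isDefEq.respectTransparency.types false
set_option maxHeartbeats 1000000

universe u

open CategoryTheory CategoryTheory.Limits AlgebraicGeometry Opposite CategoryTheory.Abelian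

attribute [local instance] Abelian.hasFiniteBiproducts

noncomputable section

namespace Groth.Agent.CurveOpen32

open Groth.Agent CurveFin32

noncomputable local instance instLawFinite32 (Y : Scheme.{u}) : PicGrp.Law Y := M2.law Y

variable {k : Type u} [Field k]

/-- An integral scheme of finite type of dimension at most zero is proper. -/
theorem isProper_of_dim_le_zero {X : Scheme.{u}} (f : X ⟶ Spec (CommRingCat.of k)) [LocallyOfFiniteType f]
    [IsIntegral X] (hdim : topologicalKrullDim X ≤ 0) : IsProper f := by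
  have hpt : ∀ x : X, x = genericPoint X := fun x => by
    have hmin := Order.krullDim_nonpos_iff_forall_isMin.1 hdim
      ⟨Set.univ, IrreducibleSpace.isIrreducible_univ X, isClosed_univ⟩
    have h1 := hmin (b := ⟨closure {x}, isIrreducible_singleton.closure, isClosed_closure⟩) fun y _ => trivial
    refine IsGenericPoint.eq ?_ (genericPoint_spec X)
    exact Set.Subset.antisymm (Set.subset_univ _) h1
  obtain ⟨U, hU, hxU, -⟩ := exists_isAffineOpen_mem_and_subset (U := (⊤ : X.Opens)) (x := genericPoint X) trivial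
  have hUtop : U = ⊤ := top_le_iff.1 fun x _ => hpt x ▸ hxU
  haveI : IsAffine X := by
    haveI : IsAffine (⊤ : X.Opens).toScheme := hUtop ▸ hU
    exact .of_isIso X.topIso.inv
  haveI : Subsingleton X := ⟨fun a b => (hpt a).trans (hpt b).symm⟩
  haveI : Subsingleton (PrimeSpectrum Γ(X, ⊤)) := X.isoSpec.inv.homeomorph.injective.subsingleton
  haveI : Nonempty (⊤ : X.Opens) := ⟨⟨genericPoint X, trivial⟩⟩
  have hfield : IsField Γ(X, ⊤) := by
    haveI : Ring.KrullDimLE 0 Γ(X, ⊤) := ⟨Order.krullDim_nonpos_of_subsingleton⟩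
    exact Ring.KrullDimLE.isField_of_isDomain
  haveI : IsFinite f := by
    rw [HasAffineProperty.iff_of_isAffine (P := @IsFinite)]
    refine ⟨inferInstance, ?_⟩
    have hft : (f.appTop).hom.FiniteType := by
      have := ‹LocallyOfFiniteType f›
      rwa [HasRingHomProperty.iff_of_isAffine (P := @LocallyOfFiniteType)] at this
    letI := hfield.toField
    letI : Field Γ(Spec (CommRingCat.of k), ⊤) :=
      ((Scheme.ΓSpecIso (CommRingCat.of k)).commRingCatIsoToRingEquiv.toMulEquiv.isField (Field.toIsField k)).toField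
    letI := f.appTop.hom.toAlgebra
    haveI : Algebra.FiniteType Γ(Spec (CommRingCat.of k), ⊤) Γ(X, ⊤) := hft
    exact finite_of_finite_type_of_isJacobsonRing Γ(Spec (CommRingCat.of k), ⊤) Γ(X, ⊤)
  infer_instance

variable [IsAlgClosed k]

/-- Finiteness for a normal affine curve. -/
theorem finite_H_affine {U : Scheme.{u}} [IsAffine U] [IsIntegral U] (p : U ⟶ Spec (CommRingCat.of k))
    [LocallyOfFiniteType p] (hN : Pi1.IsNormalScheme U) (hd : topologicalKrullDim U = 1) {ℓ : ℕ}
    (hℓ : ℓ.Prime) (hk : (ℓ : k) ≠ 0) (q : ℕ) : Finite (EtCoh.H U (EtCoh.const U (ZMod ℓ)) q) := by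
  classical
  haveI : IsLocallyNoetherian U := LocallyOfFiniteType.isLocallyNoetherian p
  haveI : QuasiCompact p := inferInstance
  obtain ⟨z, hz⟩ := IsAlgClosed.exists_root (Polynomial.cyclotomic ℓ k)
    (Polynomial.degree_cyclotomic_pos ℓ k hℓ.pos).ne'
  let φ : k →+* Γ(U, ⊤) := ((Scheme.ΓSpecIso (CommRingCat.of k)).inv ≫ p.appTop).hom
  have hζ : Polynomial.aeval (φ z) (Polynomial.cyclotomic ℓ ℤ) = 0 := by
    have h : (Polynomial.cyclotomic ℓ Γ(U, ⊤)).eval (φ z) = 0 := by
      rw [← Polynomial.map_cyclotomic ℓ φ, Polynomial.eval_map, Polynomial.eval₂_hom, hz.eq_zero, map_zero]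
    rw [← Polynomial.map_cyclotomic_int ℓ, Polynomial.eval_map] at h
    rw [Polynomial.aeval_def, algebraMap_int_eq]
    exact h
  obtain ⟨μ⟩ := Kummer24.nonempty_mu_iso hℓ.one_le (isUnit_natCast p hk) (φ z) hζ
  refine finite_H_of_iso μ.symm ?_
  match q with
  | 0 => exact Nat.finite_of_card_ne_zero (by rw [card_H0_mu p hℓ.one_le hk]; exact hℓ.ne_zero)
  | 1 =>
    obtain ⟨Y, hY, qY, j, hq, hj, hjq, hYN, hYX⟩ := CurveNF.exists_completion_integral p
      (fun y hy => Curve17.ringKrullDim_stalk hd hy) hN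
    haveI : IsLocallyNoetherian Y := LocallyOfFiniteType.isLocallyNoetherian qY
    haveI : LocallyOfFinitePresentation qY := inferInstance
    haveI hsm : Smooth qY := RegSmooth17.smooth_of_regular_of_perfectField qY fun y => by
      haveI := (hYN y).1
      haveI := (hYN y).2
      exact DVRVal.isRegularLocalRing_of_normal _ (DVRVal.ringKrullDim_stalk_le_one qY hYX y)
    have hdY : topologicalKrullDim Y = 1 := by
      rw [VarDim.topologicalKrullDim_eq_height_genericPoint, VarDim.height_eq_sdim qY,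
        (CurveNF.curve_iff_sdim_genericPoint qY).1 hYX]
      rfl
    letI : Y.Over (Spec (CommRingCat.of k)) := ⟨qY⟩
    haveI : IsProper (Y ↘ Spec (CommRingCat.of k)) := hq
    haveI : Smooth (Y ↘ Spec (CommRingCat.of k)) := hsm
    let V := j.opensRange
    haveI : IsAffine (V : Scheme.{u}) := .of_isIso j.isoOpensRange.inv
    have hV : (V : Set Y).Nonempty := ⟨j (genericPoint U), genericPoint U, rfl⟩
    have hfin : ((V : Set Y)ᶜ).Finite := CurveNF.finite_of_isClosed qY hYX V.2.isClosed_compl fun h =>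
      h (((genericPoint_spec Y).mem_open_set_iff V.2).2 ⟨hV.some, trivial, hV.some_mem⟩)
    haveI : Nonempty (V : Scheme.{u}) := ⟨⟨hV.some, hV.some_mem⟩⟩
    haveI : IsIntegral (V : Scheme.{u}) := isIntegral_of_isOpenImmersion V.ι
    obtain ⟨μ'⟩ := Kummer24.nonempty_mu_iso (S := (V : Scheme.{u})) hℓ.one_le
      (isUnit_natCast (V.ι ≫ qY) hk) (j.isoOpensRange.inv.appTop (φ z)) (by
        rw [← RingHom.toIntAlgHom_apply j.isoOpensRange.inv.appTop.hom, Polynomial.aeval_algHom_apply, hζ, map_zero])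
    refine finite_H_of_iso μ (finite_H_const_of_homeo j.isoOpensRange.inv (ZMod ℓ) (finite_H_of_iso μ'.symm ?_))
    refine Nat.finite_of_card_ne_zero fun h0 => ?_
    have := card_H1_open hdY V hV hfin hℓ.one_le hk
    rw [h0, zero_mul] at this
    exact (Nat.mul_pos (pow_pos hℓ.pos _) (pow_pos hℓ.pos _)).ne this
  | q + 2 =>
    haveI := Groth.Agent.S0204.result k U p hd.le (EtCoh.mu U ℓ) (AffMu32.isTorsion_mu U hℓ.one_le) (q + 2)
      (by omega)
    infer_instance

/-- Finiteness for a normal integral separated curve. -/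
theorem finite_H_normal {X : Scheme.{u}} (f : X ⟶ Spec (CommRingCat.of k)) [IsSeparated f] [LocallyOfFiniteType f]
    [QuasiCompact f] [IsIntegral X] (hN : Pi1.IsNormalScheme X) (hdim : topologicalKrullDim X ≤ 1) {ℓ : ℕ}
    (hℓ : ℓ.Prime) (hk : (ℓ : k) ≠ 0) (q : ℕ) : Finite (EtCoh.H X (EtCoh.const X (ZMod ℓ)) q) := by
  by_cases h1 : topologicalKrullDim X = 1
  · letI : X.Over (Spec (CommRingCat.of k)) := ⟨f⟩
    haveI : IsSeparated (X ↘ Spec (CommRingCat.of k)) := ‹IsSeparated f›
    haveI : LocallyOfFiniteType (X ↘ Spec (CommRingCat.of k)) := ‹LocallyOfFiniteType f›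
    haveI : QuasiCompact (X ↘ Spec (CommRingCat.of k)) := ‹QuasiCompact f›
    rcases Groth.Agent.S1627.result k X h1 with h | ⟨d, c, hc, hc'⟩
    · exact finite_H_affine f hN h1 hℓ hk q
    · haveI := hc
      haveI : IsProper f := by
        rw [show f = c ≫ CohB1.ProjSpace.toSpec d k from hc'.symm]
        infer_instance
      exact finite_H_integral f hN hdim hℓ q
  · have h0 : topologicalKrullDim X ≤ 0 := by
      rcases lt_or_eq_of_le hdim with h | h
      · match hd : topologicalKrullDim X, h with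
        | ⊥, _ => exact bot_le
        | (m : ℕ∞), h => exact WithBot.coe_le_coe.2 (Order.lt_one_iff.1 (WithBot.coe_lt_coe.1 h)).le
      · exact absurd h h1
    haveI := isProper_of_dim_le_zero f h0
    exact finite_H_integral f hN hdim hℓ q

/-- Finiteness in one degree for constructible sheaves killed by an integer invertible in `k`. -/
def FiniteInN (k : Type u) [Field k] (q : ℕ) : Prop :=
  ∀ (X : Scheme.{u}) (f : X ⟶ Spec (CommRingCat.of k)), IsSeparated f → LocallyOfFiniteType f → QuasiCompact f →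
    topologicalKrullDim X ≤ 1 → ∀ N : ℕ, (N : k) ≠ 0 → ∀ F : EtCoh.Ab X, EtPBC.IsConstructible F →
      N • 𝟙 F = 0 → Finite (EtCoh.H X F q)

/-- Finiteness passes to a subsheaf, given it one degree lower for sheaves with the same annihilator. -/
theorem finite_H_of_mono' {X : Scheme.{u}} [IsLocallyNoetherian X] {F G : EtCoh.Ab X} (ι : F ⟶ G) [Mono ι]
    (hG : EtPBC.IsConstructible G) {N : ℕ} (hN : N • 𝟙 G = 0) {q : ℕ} (hfin : Finite (EtCoh.H X G q))
    (hlow : ∀ Q : EtCoh.Ab X, EtPBC.IsConstructible Q → N • 𝟙 Q = 0 → ∀ p, p + 1 = q → Finite (EtCoh.H X Q p)) :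
    Finite (EtCoh.H X F q) := by
  classical
  haveI := hfin
  let S : ShortComplex (EtCoh.Ab X) := ShortComplex.mk ι (cokernel.π ι) (cokernel.condition ι)
  have hS : S.ShortExact := { exact := ShortComplex.exact_of_g_is_cokernel _ (cokernelIsCokernel ι) }
  match q with
  | 0 =>
    refine Finite.of_injective (fun x : EtCoh.H X F 0 => (x.comp (Ext.mk₀ ι) (add_zero 0) : EtCoh.H X G 0))
      fun a b hab => ?_
    obtain ⟨a, rfl⟩ := (Ext.mk₀_bijective _ _).2 a
    obtain ⟨b, rfl⟩ := (Ext.mk₀_bijective _ _).2 b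
    simp only [Ext.mk₀_comp_mk₀] at hab
    exact congrArg _ ((cancel_mono ι).1 ((Ext.mk₀_bijective _ _).1 hab))
  | p + 1 =>
    haveI := hlow (cokernel ι) (Constr24.isConstructible_quotient (cokernel.π ι) hG) (by
      rw [← cancel_epi (cokernel.π ι), Preadditive.comp_nsmul, Category.comp_id, comp_zero,
        ← Category.id_comp (cokernel.π ι), ← Preadditive.nsmul_comp, hN, zero_comp]) p rfl
    let g : EtCoh.H X F (p + 1) →+ EtCoh.H X G (p + 1) := Sheaf.H.map ι (p + 1)
    let d : EtCoh.H X (cokernel ι) p → g.ker := fun y => ⟨y.comp hS.extClass rfl, by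
      show (y.comp hS.extClass (rfl : p + 1 = p + 1)).comp (Ext.mk₀ S.f) (add_zero (p + 1)) = 0
      rw [Ext.comp_assoc_of_third_deg_zero, hS.extClass_comp, Ext.comp_zero]⟩
    haveI : Finite g.ker := Finite.of_surjective d fun x => by
      obtain ⟨y, hy⟩ := Ext.covariant_sequence_exact₁ _ hS x.1 x.2 (n₀ := p) rfl
      exact ⟨y, Subtype.ext hy⟩
    haveI : Finite (EtCoh.H X F (p + 1) ⧸ g.ker) :=
      Finite.of_injective _ (QuotientAddGroup.kerLift_injective g)
    exact Finite.of_equiv _ (AddSubgroup.addGroupEquivQuotientProdAddSubgroup (s := g.ker)).symm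

theorem nsmul_id_const' (X : Scheme.{u}) (M : Type) [AddCommGroup M] {N : ℕ} (h : ∀ m : M, N • m = 0) :
    N • 𝟙 (EtCoh.const X M) = 0 := by
  show (N • 𝟙 ((LocAcyc24.cs X).obj (AddCommGrpCat.of (ULift.{u + 1} M)))) = 0
  rw [← CategoryTheory.Functor.map_id, ← Functor.map_nsmul]
  have e : (N • 𝟙 (AddCommGrpCat.of (ULift.{u + 1} M))) = 0 := by
    ext a
    show (N • a : ULift.{u + 1} M).down = 0
    simp [h]
  rw [e, Functor.map_zero]

theorem nsmul_id_biproduct_push {X : Scheme.{u}} {n N : ℕ} (W : Fin n → Scheme.{u}) (g : ∀ i, W i ⟶ X)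
    (G : ∀ i, EtCoh.Ab (W i)) (h : ∀ i, N • 𝟙 (G i) = 0) :
    N • 𝟙 (⨁ fun i => (EtCoh.push (g i)).obj (G i)) = 0 := by
  refine biproduct.hom_ext _ _ fun i => ?_
  haveI : (EtCoh.push (g i)).Additive := (EtCoh.pullPushAdj (g i)).right_adjoint_additive
  rw [Preadditive.nsmul_comp, Category.id_comp, zero_comp,
    ← Category.comp_id (biproduct.π _ i), ← Preadditive.comp_nsmul, ← CategoryTheory.Functor.map_id,
    ← Functor.map_nsmul, h, Functor.map_zero, comp_zero]

/-- The inductive step for `ℤ/ℓ`. -/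
theorem finite_H_zmod_step' {q : ℕ} (ih : ∀ p, p + 1 = q → FiniteInN k p) {X : Scheme.{u}}
    (f : X ⟶ Spec (CommRingCat.of k)) [IsSeparated f] [LocallyOfFiniteType f] [QuasiCompact f]
    (hdim : topologicalKrullDim X ≤ 1) {ℓ : ℕ} (hℓ : ℓ.Prime) (hk : (ℓ : k) ≠ 0) :
    Finite (EtCoh.H X (EtCoh.const X (ZMod ℓ)) q) := by
  classical
  haveI : NeZero ℓ := ⟨hℓ.ne_zero⟩
  haveI : IsLocallyNoetherian X := LocallyOfFiniteType.isLocallyNoetherian f
  haveI : CompactSpace X := QuasiCompact.compactSpace_of_compactSpace f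
  haveI : IsNoetherian X := {}
  haveI : Finite (genericPoints X) :=
    (genericPoints.finite (TopologicalSpace.NoetherianSpace.finite_irreducibleComponents)).to_subtype
  let n := Nat.card (genericPoints X)
  let η : Fin n → X := fun i => ((Finite.equivFin (genericPoints X)).symm i).1
  haveI hI : ∀ i, IsIntegral (NumPoly18.ptIdeal (η i)).subscheme := fun i => (NumPoly18.isIntegral_pt (η i)).1
  let W : Fin n → Scheme.{u} := fun i => Curv2.normalization (NumPoly18.ptIdeal (η i)).subscheme
  let g : ∀ i, W i ⟶ X := fun i =>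
    Curv2.normalizationι (NumPoly18.ptIdeal (η i)).subscheme ≫ (NumPoly18.ptIdeal (η i)).subschemeι
  have hprop : ∀ i, IsFinite (g i) ∧ (∀ x ∈ closure ({η i} : Set X), x ∈ Set.range (g i)) ∧
      IsIntegral (W i) ∧ Pi1.IsNormalScheme (W i) := fun i => by
    let Z := (NumPoly18.ptIdeal (η i)).subscheme
    letI : Z.Over (Spec (CommRingCat.of k)) := ⟨(NumPoly18.ptIdeal (η i)).subschemeι ≫ f⟩
    haveI : LocallyOfFiniteType (Z ↘ Spec (CommRingCat.of k)) :=
      inferInstanceAs (LocallyOfFiniteType ((NumPoly18.ptIdeal (η i)).subschemeι ≫ f))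
    obtain ⟨hfin, hdom, -, hint, hnor⟩ := Groth.Agent.S1585.result k Z
    haveI : IsFinite (Curv2.normalizationι Z) := hfin
    refine ⟨inferInstanceAs (IsFinite (Curv2.normalizationι Z ≫ _)), fun x hx => ?_, hint, hnor⟩
    rw [← NumPoly18.range_ptι (η i)] at hx
    obtain ⟨z, rfl⟩ := hx
    have hsurj : Set.range (Curv2.normalizationι Z) = Set.univ :=
      ((Curv2.normalizationι Z).isClosedMap.isClosed_range).closure_eq ▸ hdom.denseRange.closure_range
    obtain ⟨w, hw⟩ : z ∈ Set.range (Curv2.normalizationι Z) := hsurj ▸ Set.mem_univ z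
    exact ⟨w, by rw [Scheme.Hom.comp_apply, hw]⟩
  haveI : ∀ i, IsFinite (g i) := fun i => (hprop i).1
  haveI : ∀ i, LocallyOfFinitePresentation (g i) := fun i =>
    LocImm12.locallyOfFinitePresentation_of_locallyOfFiniteType (g i)
  have hcov : ∀ x : X, ∃ i, x ∈ Set.range (g i) := fun x => by
    let γ := genericPoints.ofComponent
      (⟨irreducibleComponent x, irreducibleComponent_mem_irreducibleComponents x⟩ : irreducibleComponents X)
    refine ⟨Finite.equivFin (genericPoints X) γ, (hprop _).2.1 x ?_⟩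
    simp only [η, Equiv.symm_apply_apply]
    rw [(genericPoints.isGenericPoint_ofComponent _ : IsGenericPoint γ.1 _).def]
    exact mem_irreducibleComponent
  haveI := mono_lift_units W g hcov (EtCoh.const X (ZMod ℓ))
  refine finite_H_of_mono' (N := ℓ) (biproduct.lift fun i => ((EtCoh.pullPushAdj (g i)).unit.app (EtCoh.const X (ZMod ℓ)) :
      EtCoh.const X (ZMod ℓ) ⟶ (EtCoh.push (g i)).obj ((EtCoh.pull (g i)).obj (EtCoh.const X (ZMod ℓ))))) ?_
    (nsmul_id_biproduct_push W g _ fun i => EtAcyc24.nsmul_id_pull (g i) (EtAcyc24.nsmul_id_const X ℓ)) ?_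
    fun Q hQ hQk p hp => ih p hp X f ‹_› ‹_› ‹_› hdim ℓ hk Q hQ hQk
  · refine Constr24.isConstructible_biproduct _ fun i => Constr24.isConstructible_push_finite (g i) ?_
    haveI : CompactSpace (W i) := QuasiCompact.compactSpace_of_compactSpace (g i)
    haveI : QuasiSeparatedSpace (W i) := quasiSeparatedSpace_of_quasiSeparated (g i ≫ f)
    exact Constr24.isConstructible_iso (EtCore.pullConst (g i) (ZMod ℓ)).symm (isConstructible_const (ZMod ℓ))
  · refine finite_H_biproduct _ fun i => finite_H_push (g i) _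
      (finite_H_of_iso (EtCore.pullConst (g i) (ZMod ℓ)) ?_)
    haveI := (hprop i).2.2.1
    exact finite_H_normal (g i ≫ f) (hprop i).2.2.2
      ((H12.topologicalKrullDim_le_of_eq_of_specializes (g i) (g i).continuous
        fun _ _ h he => H12.eq_of_specializes_of_isIntegralHom (g i) h he).trans hdim) hℓ hk q

/-- The inductive step for finite constant sheaves. -/
theorem finite_H_const_step' {q : ℕ} (ih : ∀ p, p + 1 = q → FiniteInN k p) {X : Scheme.{u}}
    (f : X ⟶ Spec (CommRingCat.of k)) [IsSeparated f] [LocallyOfFiniteType f] [QuasiCompact f]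
    (hdim : topologicalKrullDim X ≤ 1) {N : ℕ} (hN : (N : k) ≠ 0) :
    ∀ (c : ℕ) (M : Type) [AddCommGroup M] [Finite M], Nat.card M = c → (∀ m : M, N • m = 0) →
      Finite (EtCoh.H X (EtCoh.const X M) q) := by
  intro c
  induction c using Nat.strong_induction_on with
  | _ c ihc =>
    intro M _ _ hc hM0
    rcases subsingleton_or_nontrivial M with hM | hM
    · haveI : Subsingleton (EtCoh.H X (EtCoh.const X M) q) := by
        have hz : IsZero (EtCoh.const X M) := Functor.map_isZero
          (constantSheaf X.smallEtaleTopology AddCommGrpCat.{u + 1}) (AddCommGrpCat.isZero_of_subsingleton _)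
        refine subsingleton_of_forall_eq 0 fun x => ?_
        rw [← Ext.comp_mk₀_id x, hz.eq_of_src (𝟙 _) 0, Ext.mk₀_zero, Ext.comp_zero]
      infer_instance
    · obtain ⟨ℓ, hℓ, hdvd⟩ := Nat.exists_prime_and_dvd (n := Nat.card M) Finite.one_lt_card.ne'
      haveI := Fact.mk hℓ
      obtain ⟨a, ha⟩ := exists_prime_addOrderOf_dvd_card' ℓ hdvd
      have hℓk : (ℓ : k) ≠ 0 := fun h => hN (by
        obtain ⟨b, hb⟩ : ℓ ∣ N := ha ▸ addOrderOf_dvd_of_nsmul_eq_zero (hM0 a)
        rw [hb, Nat.cast_mul, h, zero_mul])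
      let i : ZMod ℓ →+ M := ZMod.lift ℓ ⟨zmultiplesHom M a, by
        rw [zmultiplesHom_apply, natCast_zsmul, ← ha, addOrderOf_nsmul_eq_zero]⟩
      have hi : Function.Injective i := (ZMod.lift_injective _).2 fun m hm => by
        rw [ZMod.intCast_zmod_eq_zero_iff_dvd, ← ha, addOrderOf_dvd_iff_zsmul_eq_zero]
        exact hm
      refine finite_H_const_extension i (QuotientAddGroup.mk' i.range) hi (QuotientAddGroup.mk'_surjective _)
        (fun m => by simp) (finite_H_zmod_step' ih f hdim hℓ hℓk) (ihc _ ?_ _ rfl fun m => ?_)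
      · have h1 := AddSubgroup.card_eq_card_quotient_mul_card_addSubgroup i.range
        have h2 : Nat.card i.range = ℓ :=
          (Nat.card_congr (AddMonoidHom.ofInjective hi).toEquiv).symm.trans (Nat.card_zmod ℓ)
        rw [← hc, h1, h2]
        exact lt_mul_of_one_lt_right Nat.card_pos hℓ.one_lt
      · obtain ⟨m, rfl⟩ := QuotientAddGroup.mk_surjective m
        rw [← QuotientAddGroup.mk_nsmul, hM0, QuotientAddGroup.mk_zero]

/-- Constructible sheaves killed by an invertible integer have finite cohomology on curves. -/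
theorem finiteInN (q : ℕ) : FiniteInN k q := by
  induction q using Nat.strong_induction_on with
  | _ q ih =>
    intro X f hs hl hqc hdim N hN F hF hFN
    classical
    haveI := hs
    haveI := hl
    haveI := hqc
    haveI : IsLocallyNoetherian X := LocallyOfFiniteType.isLocallyNoetherian f
    haveI : CompactSpace X := QuasiCompact.compactSpace_of_compactSpace f
    haveI : QuasiSeparatedSpace X := quasiSeparatedSpace_of_quasiSeparated f
    have ih' : ∀ p, p + 1 = q → FiniteInN k p := fun p hp => ih p (by omega)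
    obtain ⟨n, Y, g, hg, hg', M, iM, iM', h⟩ := Groth.Agent.S0144.result X F hF
    obtain ⟨ι, hι⟩ := h
    haveI := hι
    haveI : ∀ i, CompactSpace (Y i) := fun i => QuasiCompact.compactSpace_of_compactSpace (g i)
    haveI : ∀ i, QuasiSeparatedSpace (Y i) := fun i => quasiSeparatedSpace_of_quasiSeparated (g i ≫ f)
    let N' := ∏ i, Nat.card (M i)
    let N₁ := ordCompl[ringChar k] N'
    let c := ordProj[ringChar k] N'
    have hN' : N' ≠ 0 := Finset.prod_ne_zero_iff.2 fun i _ => Nat.card_pos.ne'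
    have hmul : c * N₁ = N' := Nat.ordProj_mul_ordCompl_eq_self _ _
    haveI := ringChar.charP k
    have hp : ringChar k = 0 ∨ (ringChar k).Prime := (CharP.char_is_prime_or_zero k (ringChar k)).symm
    have hN₁ : (N₁ : k) ≠ 0 := fun h0 => by
      have hd := (CharP.cast_eq_zero_iff k (ringChar k) N₁).1 h0
      rcases hp with h1 | h1
      · rw [h1, zero_dvd_iff] at hd
        exact hN' (by rw [← hmul, hd, mul_zero])
      · exact Nat.not_dvd_ordCompl h1 hN' hd
    have hco : ∀ d : ℕ, (d : k) ≠ 0 → Nat.Coprime d c := fun d hd => by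
      rcases hp with h1 | h1
      · simp [c, h1]
      · exact Nat.Coprime.pow_right _ ((Nat.coprime_comm).1 ((Nat.Prime.coprime_iff_not_dvd h1).2 fun hdd =>
          hd ((CharP.cast_eq_zero_iff k (ringChar k) d).2 hdd)))
    let G : Fin n → EtCoh.Ab X := fun i => (EtCoh.push (g i)).obj (EtCoh.const (Y i) (M i))
    let G' : Fin n → EtCoh.Ab X := fun i => (EtCoh.push (g i)).obj (EtCoh.const (Y i) (nTor N₁ (M i)))
    have hkM : ∀ i (x : M i), N' • x = 0 := fun i x => by
      obtain ⟨b, hb⟩ := Finset.dvd_prod_of_mem (fun i => Nat.card (M i)) (Finset.mem_univ i)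
      rw [show N' = Nat.card (M i) * b from hb, mul_comm, mul_nsmul', card_nsmul_eq_zero', nsmul_zero]
    have hF₁ : N₁ • 𝟙 F = 0 := by
      have h1 : N' • 𝟙 F = 0 := by
        rw [← cancel_mono ι, Preadditive.nsmul_comp, Category.id_comp, zero_comp, ← Category.comp_id ι,
          ← Preadditive.comp_nsmul, nsmul_id_biproduct_push Y g _ fun i => nsmul_id_const' (Y i) (M i) (hkM i),
          comp_zero]
      rw [← addOrderOf_dvd_iff_nsmul_eq_zero] at h1 hFN ⊢
      rw [← hmul] at h1
      exact ((hco N hN).coprime_dvd_left hFN).dvd_of_dvd_mul_left h1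
    haveI : ∀ i, (EtCoh.push (g i)).Additive := fun i => (EtCoh.pullPushAdj (g i)).right_adjoint_additive
    let π : ∀ i, G i ⟶ G' i := fun i => (EtCoh.push (g i)).map ((LocAcyc24.cs (Y i)).map (AddCommGrpCat.ofHom
      ((AddEquiv.ulift.symm.toAddMonoidHom.comp ((c • AddMonoidHom.id (M i)).codRestrict (nTor N₁ (M i)) fun x => by
        show N₁ • c • x = 0
        rw [← mul_nsmul, hmul, hkM])).comp AddEquiv.ulift.toAddMonoidHom)))
    let j : ∀ i, G' i ⟶ G i := fun i => (EtCoh.push (g i)).map ((LocAcyc24.cs (Y i)).map (AddCommGrpCat.ofHom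
      ((AddEquiv.ulift.symm.toAddMonoidHom.comp (nTor N₁ (M i)).subtype).comp AddEquiv.ulift.toAddMonoidHom)))
    have hπj : ∀ i, π i ≫ j i = c • 𝟙 (G i) := fun i => by
      rw [← CategoryTheory.Functor.map_comp, ← CategoryTheory.Functor.map_comp, ← CategoryTheory.Functor.map_id,
        ← Functor.map_nsmul]
      congr 1
      refine Eq.trans ?_ (show (LocAcyc24.cs (Y i)).map (c • 𝟙 (AddCommGrpCat.of (ULift.{u + 1} (M i)))) =
        c • 𝟙 (EtCoh.const (Y i) (M i)) by rw [Functor.map_nsmul, CategoryTheory.Functor.map_id])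
      congr 1
    let ι' : F ⟶ ⨁ G' := ι ≫ biproduct.map π
    haveI : Mono ι' := ⟨fun {Z} a b hab => by
      have h1 : c • (a - b) = 0 := by
        rw [← cancel_mono ι, zero_comp, Preadditive.nsmul_comp, Preadditive.sub_comp]
        have h2 : biproduct.map π ≫ biproduct.map j = c • 𝟙 (⨁ G) := by
          refine biproduct.hom_ext _ _ fun i => ?_
          rw [Category.assoc, biproduct.map_π, biproduct.map_π_assoc, hπj, Preadditive.comp_nsmul, Category.comp_id,
            Preadditive.nsmul_comp, Category.id_comp]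
        have hιj : ι' ≫ biproduct.map j = c • ι :=
          (Category.assoc _ _ _).trans ((congrArg (ι ≫ ·) h2).trans
            ((Preadditive.comp_nsmul ι (𝟙 (⨁ G)) c).trans (congrArg (c • ·) (Category.comp_id ι))))
        have h3 : a ≫ (c • ι) = b ≫ (c • ι) := by
          rw [← hιj, ← Category.assoc, hab, Category.assoc]
        rw [smul_sub, ← Preadditive.comp_nsmul, ← Preadditive.comp_nsmul, h3, sub_self]
      have h4 : N₁ • (a - b) = 0 := by
        rw [← Category.comp_id (a - b), ← Preadditive.comp_nsmul, hF₁, comp_zero]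
      rw [← addOrderOf_dvd_iff_nsmul_eq_zero] at h1 h4
      refine sub_eq_zero.1 (AddMonoid.addOrderOf_eq_one_iff.1 (Nat.dvd_one.1 ?_))
      rw [← (hco N₁ hN₁).gcd_eq_one]
      exact Nat.dvd_gcd h4 h1⟩
    exact finite_H_of_mono' ι' (Constr24.isConstructible_biproduct _ fun i =>
      Constr24.isConstructible_push_finite (g i) (isConstructible_const (nTor N₁ (M i))))
      (N := N₁) (nsmul_id_biproduct_push Y g _ fun i => nsmul_id_const' (Y i) _ fun x => Subtype.ext x.2)
      (finite_H_biproduct _ fun i => finite_H_push (g i) _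
        (finite_H_const_step' ih' (g i ≫ f) ((H12.topologicalKrullDim_le_of_eq_of_specializes (g i) (g i).continuous
          fun _ _ h he => H12.eq_of_specializes_of_isIntegralHom (g i) h he).trans hdim) hN₁ _ _ rfl
          fun x => Subtype.ext x.2))
      fun Q hQ hQk p hp => ih' p hp X f hs hl hqc hdim N₁ hN₁ Q hQ hQk

/-- Finiteness for constructible sheaves of torsion invertible in `k`. -/
theorem finite_H {X : Scheme.{u}} (f : X ⟶ Spec (CommRingCat.of k)) [IsSeparated f] [LocallyOfFiniteType f]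
    [QuasiCompact f] (hdim : topologicalKrullDim X ≤ 1) (F : EtCoh.Ab X) (hF : EtPBC.IsConstructible F)
    (hFt : EtPBC.IsTorsionInvertibleOn (Spec (CommRingCat.of k)) F) (q : ℕ) : Finite (EtCoh.H X F q) := by
  classical
  haveI : CompactSpace X := QuasiCompact.compactSpace_of_compactSpace f
  haveI : QuasiSeparatedSpace X := quasiSeparatedSpace_of_quasiSeparated f
  obtain ⟨n, Y, g, hg, hg', M, iM, iM', h⟩ := Groth.Agent.S0144.result X F hF
  obtain ⟨ι, hι⟩ := h
  haveI := hι
  let N' := ∏ i, Nat.card (M i)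
  have hN' : N' ≠ 0 := Finset.prod_ne_zero_iff.2 fun i _ => Nat.card_pos.ne'
  haveI := ringChar.charP k
  let N := ordCompl[ringChar k] N'
  let c := ordProj[ringChar k] N'
  have hmul : c * N = N' := Nat.ordProj_mul_ordCompl_eq_self _ _
  have hN : (N : k) ≠ 0 := fun h0 => by
    have hd := (CharP.cast_eq_zero_iff k (ringChar k) N).1 h0
    rcases (CharP.char_is_prime_or_zero k (ringChar k)).symm with h1 | h1
    · rw [h1, zero_dvd_iff] at hd
      exact hN' (by rw [← hmul, hd, mul_zero])
    · exact Nat.not_dvd_ordCompl h1 hN' hd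
  have hk' : EtCoh.KilledBy N' F := EtBCQ24.killedBy_of_nsmul (by
    rw [← cancel_mono ι, Preadditive.nsmul_comp, Category.id_comp, zero_comp, ← Category.comp_id ι,
      ← Preadditive.comp_nsmul, nsmul_id_biproduct_push Y g _ fun i => nsmul_id_const' (Y i) (M i) fun x => by
        obtain ⟨b, hb⟩ := Finset.dvd_prod_of_mem (fun i => Nat.card (M i)) (Finset.mem_univ i)
        rw [show N' = Nat.card (M i) * b from hb, mul_comm, mul_nsmul', card_nsmul_eq_zero', nsmul_zero],
      comp_zero])
  refine finiteInN q X f ‹_› ‹_› ‹_› hdim N hN F hF (EtBCQ24.nsmul_id_of_killedBy fun U s => ?_)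
  choose V v m hv hm hs using hFt U s
  refine EtPic3.sect_ext F v (fun x => ⟨x, hv x⟩) fun x => ?_
  rw [map_zero, map_nsmul]
  have hmk : (m x : k) ≠ 0 := fun h0 => by
    have h1 := (hm x).map (Scheme.ΓSpecIso (CommRingCat.of k)).hom.hom
    rw [map_natCast] at h1
    exact h1.ne_zero h0
  have h1 : addOrderOf (F.obj.map (v x).op s) ∣ c * N := by
    rw [hmul, addOrderOf_dvd_iff_nsmul_eq_zero]
    exact hk' (V x) _
  refine addOrderOf_dvd_iff_nsmul_eq_zero.1 (Nat.Coprime.dvd_of_dvd_mul_left ?_ h1)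
  refine Nat.Coprime.coprime_dvd_left (addOrderOf_dvd_iff_nsmul_eq_zero.2 (hs x)) ?_
  rcases (CharP.char_is_prime_or_zero k (ringChar k)).symm with h2 | h2
  · simp [c, h2]
  · exact Nat.Coprime.pow_right _ ((Nat.coprime_comm).1 ((Nat.Prime.coprime_iff_not_dvd h2).2 fun hdd =>
      hmk ((CharP.cast_eq_zero_iff k (ringChar k) _).2 hdd)))

end Groth.Agent.CurveOpen32
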