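import Groth.Agent.Lib.CurveOpen32.Count
import Groth.Agent.Lib.TateTors22.TorsStruct
import Mathlib.Algebra.Module.ZMod
import Mathlib.LinearAlgebra.Dimension.Finite
import Mathlib.FieldTheory.Finiteness
import Mathlib.LinearAlgebra.Basis.Basic
import Mathlib.RingTheory.Finiteness.Finsupp
import Mathlib.LinearAlgebra.Finsupp.VectorSpace
import Mathlib.Data.ZMod.Basic
import Mathlib.Algebra.Field.ZMod
import Mathlib.LinearAlgebra.FreeModule.Finite.Basic
import Mathlib.LinearAlgebra.Dimension.DivisionRing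
import Mathlib.LinearAlgebra.Basis.VectorSpace

/-!
# Recognising `(ℤ/n) ^ R` from its torsion counts
-/

set_option autoImplicit false
set_option linter.style.haveILetI false

namespace Groth.Agent.CurveOpen32

open Groth.Agent

/-- A finite `p^e`-torsion group with `p^R` elements of order dividing `p` is generated by `R` elements. -/
theorem exists_generators {G : Type*} [AddCommGroup G] [Finite G] {p e R : ℕ} [Fact p.Prime]
    (he : ∀ x : G, p ^ e • x = 0) (hc : Nat.card (nTor p G) = p ^ R) :
    ∃ g : Fin R → G, AddSubgroup.closure (Set.range g) = ⊤ := by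
  have hV : ∀ x : G ⧸ nMul p G, p • x = 0 := fun x => by
    obtain ⟨a, rfl⟩ := QuotientAddGroup.mk_surjective x
    exact (QuotientAddGroup.eq_zero_iff _).2 ⟨a, rfl⟩
  letI := AddCommGroup.zmodModule (n := p) hV
  haveI : Finite (G ⧸ nMul p G) := Quotient.finite _
  have hcard : Nat.card (G ⧸ nMul p G) = p ^ R := by
    rw [← hc]
    have h1 := AddSubgroup.card_eq_card_quotient_mul_card_addSubgroup (nMul p G)
    have h2 := AddSubgroup.card_eq_card_quotient_mul_card_addSubgroup (nTor p G)
    rw [Nat.card_congr (QuotientAddGroup.quotientKerEquivRange (p • AddMonoidHom.id G)).toEquiv] at h2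
    have h3 : Nat.card (G ⧸ nMul p G) * Nat.card (nMul p G) = Nat.card (nTor p G) * Nat.card (nMul p G) := by
      rw [← h1, mul_comm, ← h2]
    exact Nat.eq_of_mul_eq_mul_right Nat.card_pos h3
  haveI : Module.Finite (ZMod p) (G ⧸ nMul p G) := Module.Finite.of_finite
  haveI : Module.Free (ZMod p) (G ⧸ nMul p G) := Module.Free.of_divisionRing (ZMod p) (G ⧸ nMul p G)
  have hfr : Module.finrank (ZMod p) (G ⧸ nMul p G) = R := by
    let b₀ := Module.finBasis (ZMod p) (G ⧸ nMul p G)
    have := Nat.card_congr b₀.equivFun.toEquiv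
    rw [hcard, Nat.card_fun, Nat.card_fin, Nat.card_zmod] at this
    exact (Nat.pow_right_injective (Fact.out : p.Prime).two_le this).symm
  let b := Module.finBasisOfFinrankEq (ZMod p) (G ⧸ nMul p G) hfr
  choose g hg using fun i : Fin R => QuotientAddGroup.mk_surjective (b i)
  refine ⟨g, ?_⟩
  let H := AddSubgroup.closure (Set.range g)
  have h1 : ∀ x : G, ∃ h ∈ H, ∃ y : G, x = h + p • y := fun x => by
    have hs := b.sum_repr (QuotientAddGroup.mk x)
    refine ⟨∑ i, (b.repr (QuotientAddGroup.mk x) i).val • g i,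
      sum_mem fun i _ => nsmul_mem (AddSubgroup.subset_closure (k := Set.range g) ⟨i, rfl⟩) _, ?_⟩
    have h2 : ((x - ∑ i, (b.repr (QuotientAddGroup.mk x) i).val • g i : G) : (G ⧸ nMul p G)) = 0 := by
      rw [QuotientAddGroup.mk_sub, QuotientAddGroup.mk_sum, sub_eq_zero]
      conv_lhs => rw [← hs]
      refine Finset.sum_congr rfl fun i _ => ?_
      rw [QuotientAddGroup.mk_nsmul, hg i, ← Nat.cast_smul_eq_nsmul (ZMod p), ZMod.natCast_zmod_val]
    obtain ⟨y, hy⟩ := (QuotientAddGroup.eq_zero_iff _).1 h2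
    exact ⟨y, by rw [show p • y = x - _ from hy, add_sub_cancel]⟩
  have h2 : ∀ (m : ℕ) (x : G), ∃ h ∈ H, ∃ y : G, x = h + p ^ m • y := fun m => by
    induction m with
    | zero => exact fun x => ⟨0, zero_mem _, x, by rw [pow_zero, one_smul, zero_add]⟩
    | succ m ih =>
      intro x
      obtain ⟨h, hh, y, rfl⟩ := ih x
      obtain ⟨h', hh', y', rfl⟩ := h1 y
      exact ⟨h + p ^ m • h', add_mem hh (nsmul_mem hh' _), y', by rw [smul_add, ← mul_smul, ← pow_succ, add_assoc]⟩
  refine (AddSubgroup.eq_top_iff' _).2 fun x => ?_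
  obtain ⟨h, hh, y, rfl⟩ := h2 e x
  rw [he, add_zero]
  exact hh

/-- A finite group killed by `n` with `d ^ R` elements killed by each divisor `d` is `(ℤ/n) ^ R`. -/
theorem nonempty_addEquiv_zmod {G : Type*} [AddCommGroup G] [Finite G] {n R : ℕ} (hn : 0 < n)
    (hnG : ∀ x : G, n • x = 0) (h : ∀ d, d ∣ n → Nat.card (nTor d G) = d ^ R) :
    Nonempty (G ≃+ (Fin R → ZMod n)) := by
  have hgen : ∀ d : ℕ, d ∣ n → TateTors22.Gen (Multiplicative G) R d := by
    intro d
    induction d using Nat.recOnPosPrimePosCoprime with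
    | zero => exact fun hd => absurd (Nat.eq_zero_of_zero_dvd hd) hn.ne'
    | one => exact fun _ => TateTors22.gen_one
    | prime_pow p e hp he =>
      intro hd
      haveI : Fact p.Prime := ⟨hp⟩
      have hp1 : Nat.card (nTor p (nTor (p ^ e) G)) = p ^ R := by
        rw [← h p ((dvd_pow_self p he.ne').trans hd)]
        refine Nat.card_congr
          { toFun := fun x => ⟨x.1.1, congrArg Subtype.val x.2⟩
            invFun := fun x => ⟨⟨x.1, ?_⟩, Subtype.ext x.2⟩
            left_inv := fun x => rfl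
            right_inv := fun x => rfl }
        rw [mem_nTor, show e = (e - 1) + 1 by omega, pow_succ, mul_smul, mem_nTor.1 x.2, smul_zero]
      obtain ⟨g, hg⟩ := exists_generators (G := nTor (p ^ e) G) (fun x => Subtype.ext x.2) hp1
      refine ⟨fun i => Multiplicative.ofAdd (g i).1, fun i => congrArg Multiplicative.ofAdd (g i).2, fun x hx => ?_⟩
      have hx' : (⟨x.toAdd, congrArg Multiplicative.toAdd hx⟩ : nTor (p ^ e) G) ∈
          AddSubgroup.closure (Set.range g) := hg ▸ AddSubgroup.mem_top _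
      haveI : NeZero (p ^ e) := ⟨pow_ne_zero _ hp.ne_zero⟩
      let φ : (Fin R → ℤ) →+ nTor (p ^ e) G :=
        AddMonoidHom.mk' (fun c => ∑ i, c i • g i) fun c c' => by
          rw [← Finset.sum_add_distrib]
          exact Finset.sum_congr rfl fun i _ => add_smul _ _ _
      have hle : AddSubgroup.closure (Set.range g) ≤ φ.range := (AddSubgroup.closure_le _).2 (by
        rintro _ ⟨i, rfl⟩
        exact ⟨Pi.single i 1, by simp [φ, Pi.single_apply]⟩)
      obtain ⟨c, hc⟩ := hle hx'
      refine ⟨fun i => ((c i : ZMod (p ^ e))).val, ?_⟩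
      have h3 : ∑ i, ((c i : ZMod (p ^ e))).val • g i = ∑ i, c i • g i := Finset.sum_congr rfl fun i _ => by
        rw [← natCast_zsmul, ZMod.val_intCast]
        have h0 : ((p ^ e : ℕ) : ℤ) • g i = 0 := by rw [natCast_zsmul]; exact Subtype.ext (g i).2
        conv_rhs => rw [← Int.emod_add_mul_ediv (c i) ((p ^ e : ℕ) : ℤ)]
        rw [add_smul, mul_comm, mul_smul, h0, smul_zero, add_zero]
      have h4 : ((∑ i, ((c i : ZMod (p ^ e))).val • g i : nTor (p ^ e) G) : G) = x.toAdd :=
        congrArg Subtype.val (h3.trans hc)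
      rw [AddSubgroup.val_finsetSum] at h4
      refine Multiplicative.toAdd.injective ?_
      rw [← h4, toAdd_prod]
      exact Finset.sum_congr rfl fun i _ => rfl
    | coprime a b _ _ hab iha ihb =>
      exact fun hd => TateTors22.gen_mul hab (iha ((dvd_mul_right a b).trans hd)) (ihb ((dvd_mul_left b a).trans hd))
  have hker : (powMonoidHom n : Multiplicative G →* Multiplicative G).ker = ⊤ :=
    (Subgroup.eq_top_iff' _).2 fun x => congrArg Multiplicative.ofAdd (hnG x.toAdd)
  have hall : nTor n G = ⊤ := (AddSubgroup.eq_top_iff' _).2 hnG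
  obtain ⟨e⟩ := TateTors22.nonempty_mulEquiv hn (hgen n dvd_rfl) (by
    rw [hker, ← h n dvd_rfl, hall, Subgroup.card_top, AddSubgroup.card_top]
    exact Nat.card_congr Multiplicative.toAdd)
  exact ⟨AddEquiv.toMultiplicative.symm ((Subgroup.topEquiv.symm.trans (MulEquiv.subgroupCongr hker.symm)).trans e)⟩

end Groth.Agent.CurveOpen32
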