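import Groth.Agent.Lib.CurveOpen32.Open
import Groth.Agent.Lib.CurveOpen32.Struct
import Groth.Agent.Lib.AffMu32.Basic

/-!
# The group `H¹(μ_n)` of an affine curve
-/

set_option autoImplicit false
set_option linter.style.haveILetI false
set_option linter.unusedSectionVars false
set_option backward.isDefEq.respectTransparency.types false
set_option maxHeartbeats 1000000

universe u

open CategoryTheory CategoryTheory.Limits AlgebraicGeometry Opposite CategoryTheory.Abelian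

noncomputable section

namespace Groth.Agent.CurveOpen32

open Groth.Agent

noncomputable local instance instLawKummer32 (Y : Scheme.{u}) : PicGrp.Law Y := M2.law Y

variable {Q : Scheme.{u}}

/-- Sections of the units. -/
def h0Gm (Q : Scheme.{u}) : EtCoh.H Q (EtCoh.Gm Q) 0 ≃+ Additive Γ(Q, ⊤)ˣ :=
  (DescInt13.secEquiv (EtCoh.Gm Q)).trans
    (AddEquiv.ofBijective (EtPic3.ε (EtCoh.top Q)) ⟨EtPic3.ε_injective _, EtPic3.ε_surjective _⟩).symm

/-- The cardinality of `H¹(μ_n)`. -/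
theorem card_H1_mu [CompactSpace Q] [QuasiSeparatedSpace Q] {n : ℕ} (hu : IsUnit (n : Γ(Q, ⊤))) :
    Nat.card (EtCoh.H Q (EtCoh.mu Q n) 1) =
      Nat.card (Additive Γ(Q, ⊤)ˣ ⧸ nMul n (Additive Γ(Q, ⊤)ˣ)) *
        Nat.card (nTor n (Additive (PicLoc.PicSet Q))) := by
  have hepi : Epi (EtCoh.powMap Q n) := Groth.Agent.S0108.result Q n hu
  have hS := EtSix.kummerShortExact hepi
  let δ : EtCoh.H Q (EtCoh.Gm Q) 0 →+ EtCoh.H Q (EtCoh.mu Q n) 1 := hS.extClass.postcomp _ rfl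
  let i : EtCoh.H Q (EtCoh.mu Q n) 1 →+ nTor n (EtCoh.H Q (EtCoh.Gm Q) 1) :=
    (Sheaf.H.map (EtCoh.muι Q n) 1).codRestrict _ fun x => by
      show n • x.comp (Ext.mk₀ (EtCoh.muι Q n)) (add_zero 1) = 0
      rw [← CurveFin32.comp_powMap]
      exact CurveFin32.comp_mk₀_eq_zero (show EtCoh.muι Q n ≫ EtCoh.powMap Q n = 0 from kernel.condition _) x
  have hi : Function.Surjective i := fun y => by
    obtain ⟨x, hx⟩ := Ext.covariant_sequence_exact₂ _ hS y.1 ((CurveFin32.comp_powMap n y.1).trans y.2)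
    exact ⟨x, Subtype.ext hx⟩
  have he : i.ker = δ.range := by
    ext x
    constructor
    · intro hx
      obtain ⟨w, hw⟩ := Ext.covariant_sequence_exact₁ _ hS x (congrArg Subtype.val hx) (n₀ := 0) rfl
      exact ⟨w, hw⟩
    · rintro ⟨w, rfl⟩
      refine Subtype.ext ?_
      show (w.comp hS.extClass (rfl : 0 + 1 = 1)).comp (Ext.mk₀ (EtCoh.muι Q n)) (add_zero 1) = 0
      rw [Ext.comp_assoc_of_third_deg_zero]
      erw [hS.extClass_comp]
      exact Ext.comp_zero _ _ _ _ _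
  have hk : δ.ker = nMul n _ := by
    ext c
    constructor
    · intro hc
      obtain ⟨w, hw⟩ := Ext.covariant_sequence_exact₃ _ hS c (n₁ := 1) rfl hc
      exact ⟨w, (CurveFin32.comp_powMap n w).symm.trans hw⟩
    · rintro ⟨w, rfl⟩
      show (n • w).comp hS.extClass (rfl : 0 + 1 = 1) = 0
      rw [← CurveFin32.comp_powMap]
      exact CurveFin32.comp_mk₀_extClass hS _ w
  obtain ⟨e⟩ := S15401.result Q
  rw [card_of_exact δ i hi he, hk, card_quot_congr (h0Gm Q) n, ← card_nTor_congr e n]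

variable (Q) in
/-- The inclusion `μ_d → μ_n`. -/
def muIncl (d n : ℕ) (h : d ∣ n) : EtCoh.mu Q d ⟶ EtCoh.mu Q n :=
  kernel.lift _ (EtCoh.muι Q d) (by
    obtain ⟨m, rfl⟩ := h
    have hk : EtCoh.muι Q d ≫ EtCoh.powMap Q d = 0 := kernel.condition _
    rw [show EtCoh.powMap Q (d * m) = m • EtCoh.powMap Q d by
      rw [EtCoh.powMap, EtCoh.powMap, ← mul_smul, mul_comm], Preadditive.comp_nsmul, hk, smul_zero])

@[reassoc]
theorem muIncl_ι (d n : ℕ) (h : d ∣ n) : muIncl Q d n h ≫ EtCoh.muι Q n = EtCoh.muι Q d := kernel.lift_ι _ _ _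

variable (Q) in
/-- The power map `μ_{dm} → μ_m`. -/
def muPow (d m : ℕ) : EtCoh.mu Q (d * m) ⟶ EtCoh.mu Q m :=
  kernel.lift _ (d • EtCoh.muι Q (d * m)) (by
    have hk : EtCoh.muι Q (d * m) ≫ EtCoh.powMap Q (d * m) = 0 := kernel.condition _
    rw [EtCoh.powMap, Preadditive.nsmul_comp, Preadditive.comp_nsmul, ← mul_smul, ← Preadditive.comp_nsmul]
    exact hk)

@[reassoc]
theorem muPow_ι (d m : ℕ) : muPow Q d m ≫ EtCoh.muι Q m = d • EtCoh.muι Q (d * m) := kernel.lift_ι _ _ _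

theorem incl_pow (d m : ℕ) : muIncl Q d (d * m) (dvd_mul_right d m) ≫ muPow Q d m = 0 := by
  haveI : Mono (EtCoh.muι Q m) := inferInstanceAs (Mono (kernel.ι _))
  have hk : EtCoh.muι Q d ≫ EtCoh.powMap Q d = 0 := kernel.condition _
  rw [← cancel_mono (EtCoh.muι Q m), Category.assoc, muPow_ι, Preadditive.comp_nsmul, muIncl_ι, zero_comp, ← hk,
    EtCoh.powMap, Preadditive.comp_nsmul, Category.comp_id]

/-- The sequence `μ_d → μ_{dm} → μ_m`. -/
theorem muSeq_shortExact (d m : ℕ) (hu : IsUnit (d : Γ(Q, ⊤))) :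
    (ShortComplex.mk _ _ (incl_pow (Q := Q) d m)).ShortExact := by
  haveI hmm : Mono (EtCoh.muι Q d) := inferInstanceAs (Mono (kernel.ι _))
  haveI : Mono (EtCoh.muι Q (d * m)) := inferInstanceAs (Mono (kernel.ι _))
  haveI hm' : Mono (EtCoh.muι Q m) := inferInstanceAs (Mono (kernel.ι _))
  haveI hmono : Mono (muIncl Q d (d * m) (dvd_mul_right d m)) :=
    mono_of_mono_fac (muIncl_ι (Q := Q) d (d * m) (dvd_mul_right d m))
  refine { exact := ?_, mono_f := hmono, epi_g := ?_ }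
  · rw [ShortComplex.exact_iff_exact_up_to_refinements]
    intro A x hx
    let x' : A ⟶ EtCoh.mu Q (d * m) := x
    have hx' : x' ≫ muPow Q d m = 0 := hx
    have h0 : (x' ≫ EtCoh.muι Q (d * m)) ≫ EtCoh.powMap Q d = 0 := by
      rw [EtCoh.powMap, Preadditive.comp_nsmul, Category.comp_id, ← Preadditive.comp_nsmul, ← muPow_ι,
        reassoc_of% hx', zero_comp]
    let l : A ⟶ EtCoh.mu Q d := kernel.lift _ _ h0
    refine ⟨A, 𝟙 A, inferInstance, l, ?_⟩
    show 𝟙 A ≫ x' = l ≫ muIncl Q d (d * m) (dvd_mul_right d m)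
    rw [Category.id_comp, ← cancel_mono (EtCoh.muι Q (d * m)), Category.assoc, muIncl_ι]
    exact (kernel.lift_ι _ _ h0).symm
  · show Epi (muPow Q d m)
    rw [epi_iff_surjective_up_to_refinements]
    intro A y
    haveI : Epi (EtCoh.powMap Q d) := Groth.Agent.S0108.result Q d hu
    obtain ⟨A', π, hπ, z, hz⟩ := surjective_up_to_refinements_of_epi (EtCoh.powMap Q d) (y ≫ EtCoh.muι Q m)
    have hk : EtCoh.muι Q m ≫ EtCoh.powMap Q m = 0 := kernel.condition _
    have h0 : z ≫ EtCoh.powMap Q (d * m) = 0 := by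
      rw [show EtCoh.powMap Q (d * m) = EtCoh.powMap Q d ≫ EtCoh.powMap Q m by
        rw [EtCoh.powMap, EtCoh.powMap, EtCoh.powMap, Preadditive.comp_nsmul, Category.comp_id, ← mul_smul, mul_comm],
        ← Category.assoc, ← hz, Category.assoc, Category.assoc, hk, comp_zero, comp_zero]
    let l : A' ⟶ EtCoh.mu Q (d * m) := kernel.lift _ z h0
    have hl : l ≫ EtCoh.muι Q (d * m) = z := kernel.lift_ι _ _ _
    refine ⟨A', π, hπ, l, ?_⟩
    show π ≫ y = l ≫ muPow Q d m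
    rw [← cancel_mono (EtCoh.muι Q m), Category.assoc, Category.assoc, muPow_ι, Preadditive.comp_nsmul,
      hl, hz, EtCoh.powMap, Preadditive.comp_nsmul, Category.comp_id]

theorem nsmul_id_mu (n : ℕ) : n • 𝟙 (EtCoh.mu Q n) = 0 := by
  haveI : Mono (EtCoh.muι Q n) := inferInstanceAs (Mono (kernel.ι _))
  rw [← cancel_mono (EtCoh.muι Q n), Preadditive.nsmul_comp, Category.id_comp, zero_comp,
    ← Category.comp_id (EtCoh.muι Q n), ← Preadditive.comp_nsmul]
  exact kernel.condition _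

section Curve

variable {k : Type u} [Field k] [IsAlgClosed k] (f : Q ⟶ Spec (CommRingCat.of k)) [IsIntegral Q]

include f in
theorem isUnit_natCast {n : ℕ} (hnk : (n : k) ≠ 0) : IsUnit (n : Γ(Q, ⊤)) := by
  have := (isUnit_iff_ne_zero.2 hnk).map ((Scheme.ΓSpecIso (CommRingCat.of k)).inv ≫ f.appTop).hom
  rwa [map_natCast] at this

include f in
theorem card_H0_mu {n : ℕ} (hn : 1 ≤ n) (hnk : (n : k) ≠ 0) : Nat.card (EtCoh.H Q (EtCoh.mu Q n) 0) = n := by
  haveI : NeZero n := ⟨by omega⟩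
  haveI : NeZero (n : k) := ⟨hnk⟩
  obtain ⟨e⟩ := AffMu32.nonempty_H0_mu f hn hnk
  rw [Nat.card_congr e.toEquiv, Nat.card_congr Additive.toMul, HasEnoughRootsOfUnity.natCard_rootsOfUnity k n]

include f in
theorem injective_incl {d m : ℕ} (hd : 1 ≤ d) (hm : 1 ≤ m) (hk : ((d * m : ℕ) : k) ≠ 0) :
    Function.Injective (Sheaf.H.map (muIncl Q d (d * m) (dvd_mul_right d m)) 1) := by
  have hk' := hk
  rw [Nat.cast_mul, mul_ne_zero_iff] at hk'
  have hS := muSeq_shortExact (Q := Q) d m (isUnit_natCast f hk'.1)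
  let a : EtCoh.H Q (EtCoh.mu Q d) 0 →+ EtCoh.H Q (EtCoh.mu Q (d * m)) 0 :=
    Sheaf.H.map (muIncl Q d (d * m) (dvd_mul_right d m)) 0
  let b : EtCoh.H Q (EtCoh.mu Q (d * m)) 0 →+ EtCoh.H Q (EtCoh.mu Q m) 0 := Sheaf.H.map (muPow Q d m) 0
  have ha : Function.Injective a := fun x y h => by
    obtain ⟨x, rfl⟩ := (Ext.mk₀_bijective _ _).2 x
    obtain ⟨y, rfl⟩ := (Ext.mk₀_bijective _ _).2 y
    have h2 := (Ext.mk₀_comp_mk₀ x (muIncl Q d (d * m) (dvd_mul_right d m))).symm.trans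
      (h.trans (Ext.mk₀_comp_mk₀ _ _))
    haveI := hS.mono_f
    exact congrArg _ ((cancel_mono (muIncl Q d (d * m) (dvd_mul_right d m))).1 ((Ext.mk₀_bijective _ _).1 h2))
  have hab : b.ker = a.range := by
    ext x
    constructor
    · intro hx
      obtain ⟨y, hy⟩ := Ext.covariant_sequence_exact₂ _ hS x hx
      exact ⟨y, hy⟩
    · rintro ⟨y, rfl⟩
      exact CurveFin32.comp_mk₀_eq_zero (incl_pow d m) y
  haveI : Finite (EtCoh.H Q (EtCoh.mu Q m) 0) :=
    Nat.finite_of_card_ne_zero (by rw [card_H0_mu f hm hk'.2]; omega)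
  have hb : Function.Surjective b := by
    rw [← AddMonoidHom.range_eq_top]
    refine AddSubgroup.eq_top_of_card_eq _ ?_
    have h1 := card_of_exact a b.rangeRestrict b.rangeRestrict_surjective (by rw [AddMonoidHom.ker_rangeRestrict, hab])
    rw [(AddMonoidHom.ker_eq_bot_iff a).2 ha, Nat.card_congr QuotientAddGroup.quotientBot.toEquiv,
      card_H0_mu f (Nat.one_le_iff_ne_zero.2 (by positivity)) hk, card_H0_mu f hd hk'.1] at h1
    rw [card_H0_mu f hm hk'.2]
    exact (Nat.eq_of_mul_eq_mul_left hd h1).symm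
  refine (injective_iff_map_eq_zero _).2 fun x hx => ?_
  obtain ⟨w, rfl⟩ := Ext.covariant_sequence_exact₁ _ hS x hx (n₀ := 0) rfl
  obtain ⟨v, rfl⟩ := hb w
  exact CurveFin32.comp_mk₀_extClass hS _ v

include f in
/-- The `d`-torsion of `H¹(μ_{dm})` is `H¹(μ_d)`. -/
theorem card_nTor_H1_mu {d m : ℕ} (hd : 1 ≤ d) (hm : 1 ≤ m) (hk : ((d * m : ℕ) : k) ≠ 0) :
    Nat.card (nTor d (EtCoh.H Q (EtCoh.mu Q (d * m)) 1)) = Nat.card (EtCoh.H Q (EtCoh.mu Q d) 1) := by
  have hk' := hk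
  rw [Nat.cast_mul, mul_ne_zero_iff] at hk'
  have hS := muSeq_shortExact (Q := Q) d m (isUnit_natCast f hk'.1)
  let A := muIncl Q d (d * m) (dvd_mul_right d m)
  let B := muIncl Q m (d * m) (dvd_mul_left m d)
  haveI : Mono (EtCoh.muι Q (d * m)) := inferInstanceAs (Mono (kernel.ι _))
  have hBP : muPow Q d m ≫ B = d • 𝟙 (EtCoh.mu Q (d * m)) := by
    rw [← cancel_mono (EtCoh.muι Q (d * m)), Category.assoc, muIncl_ι, muPow_ι, Preadditive.nsmul_comp, Category.id_comp]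
  have hB : Function.Injective (Sheaf.H.map B 1) := by
    have key : ∀ (N : ℕ) (hN : m * d = N) (h : m ∣ N),
        Function.Injective (Sheaf.H.map (muIncl Q m N h) 1) := fun N hN h => by
      subst hN
      exact injective_incl f hm hd (by rw [mul_comm]; exact hk)
    exact key _ (mul_comm m d) _
  let i : EtCoh.H Q (EtCoh.mu Q d) 1 →+ nTor d (EtCoh.H Q (EtCoh.mu Q (d * m)) 1) :=
    (Sheaf.H.map A 1).codRestrict _ fun x => by
      show d • Sheaf.H.map A 1 x = 0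
      rw [← map_nsmul, show d • x = 0 from (Dix24.comp_mk₀_nsmul_id d x).symm.trans (by
        rw [nsmul_id_mu, Ext.mk₀_zero, Ext.comp_zero]), map_zero]
  refine (Nat.card_eq_of_bijective i ⟨fun x y h => injective_incl f hd hm hk (congrArg Subtype.val h), fun y => ?_⟩).symm
  have h0 : Sheaf.H.map (muPow Q d m) 1 y.1 = 0 := by
    refine hB ?_
    rw [map_zero]
    show (y.1.comp (Ext.mk₀ (muPow Q d m)) (add_zero 1)).comp (Ext.mk₀ B) (add_zero 1) = 0
    rw [Ext.comp_assoc_of_second_deg_zero, Ext.mk₀_comp_mk₀, hBP]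
    exact (Dix24.comp_mk₀_nsmul_id d y.1).trans y.2
  obtain ⟨x, hx⟩ := Ext.covariant_sequence_exact₂ _ hS y.1 h0
  exact ⟨x, Subtype.ext hx⟩

end Curve

end Groth.Agent.CurveOpen32
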