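import Groth.Agent.Lib.CurveOpen32.Kummer

/-!
# The structure of `H¹(μ_n)` of an affine open of a smooth proper curve
-/

set_option autoImplicit false
set_option linter.style.haveILetI false
set_option linter.unusedSectionVars false
set_option backward.isDefEq.respectTransparency.types false
set_option maxHeartbeats 1000000

universe u

open CategoryTheory CategoryTheory.Limits AlgebraicGeometry Opposite CategoryTheory.Abelian

noncomputable section

namespace Groth.Agent.CurveOpen32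

open Groth.Agent

noncomputable local instance instLawMain32 (Y : Scheme.{u}) : PicGrp.Law Y := M2.law Y

variable {k : Type u} [Field k]

/-- A nonempty open with finite complement in a proper integral curve has dimension one. -/
theorem dim_opens {X : Scheme.{u}} (f : X ⟶ Spec (CommRingCat.of k)) [IsProper f] [IsIntegral X]
    (hdim : topologicalKrullDim X = 1) (U : X.Opens) (hfin : ((U : Set X)ᶜ).Finite)
    (hU : (U : Set X).Nonempty) : topologicalKrullDim (U : Scheme.{u}) = 1 := by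
  haveI : Nonempty (U : Scheme.{u}) := ⟨⟨hU.some, hU.some_mem⟩⟩
  haveI : IsIntegral (U : Scheme.{u}) := isIntegral_of_isOpenImmersion U.ι
  refine le_antisymm ((topologicalKrullDim_subspace_le X (U : Set X)).trans hdim.le) ?_
  by_contra hlt
  have h0 : topologicalKrullDim (U : Scheme.{u}) ≤ 0 := by
    match hd : topologicalKrullDim (U : Scheme.{u}), not_le.1 hlt with
    | ⊥, _ => exact bot_le
    | (m : ℕ∞), h => exact WithBot.coe_le_coe.2 (Order.lt_one_iff.1 (WithBot.coe_lt_coe.1 h)).le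
  have hpt : ∀ x : (U : Scheme.{u}), x = genericPoint (U : Scheme.{u}) := fun x => by
    have hmin := Order.krullDim_nonpos_iff_forall_isMin.1 h0
      ⟨Set.univ, IrreducibleSpace.isIrreducible_univ _, isClosed_univ⟩
    have h1 := hmin (b := ⟨closure {x}, isIrreducible_singleton.closure, isClosed_closure⟩) fun y _ => trivial
    exact IsGenericPoint.eq (Set.Subset.antisymm (Set.subset_univ _) h1) (genericPoint_spec _)
  have hXf : Finite X := by
    have hUf : ((U : Set X)).Finite := (Set.subsingleton_of_forall_eq (genericPoint (U : Scheme.{u})).1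
      fun x hx => congrArg Subtype.val (hpt ⟨x, hx⟩)).finite
    exact Set.finite_univ_iff.1 (Set.union_compl_self (U : Set X) ▸ hUf.union hfin)
  exact AffMu32.not_finite f hdim hXf

variable [IsAlgClosed k]

/-- `H¹(μ_n)` of an affine open of a smooth proper curve. -/
theorem card_H1_open {Y : Scheme.{u}} [Y.Over (Spec (CommRingCat.of k))]
    [IsProper (Y ↘ Spec (CommRingCat.of k))] [Smooth (Y ↘ Spec (CommRingCat.of k))] [IsIntegral Y]
    (hdim : topologicalKrullDim Y = 1) (V : Y.Opens) [IsAffine (V : Scheme.{u})] (hV : (V : Set Y).Nonempty)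
    (hfin : ((V : Set Y)ᶜ).Finite) {d : ℕ} (hd : 1 ≤ d) (hdk : (d : k) ≠ 0) :
    Nat.card (EtCoh.H (V : Scheme.{u}) (EtCoh.mu (V : Scheme.{u}) d) 1) * d =
      d ^ (2 * Curv2.genus k Y) * d ^ Nat.card ↥((V : Set Y)ᶜ) := by
  haveI : Nonempty (V : Scheme.{u}) := ⟨⟨hV.some, hV.some_mem⟩⟩
  haveI : IsIntegral (V : Scheme.{u}) := isIntegral_of_isOpenImmersion V.ι
  rw [card_H1_mu (isUnit_natCast (V.ι ≫ Y ↘ Spec (CommRingCat.of k)) hdk), mul_comm (Nat.card _) (Nat.card _)]
  exact card_pic_units hdim V hV (dim_opens (Y ↘ Spec (CommRingCat.of k)) hdim V hfin hV) hfin hd hdk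

/-- `H¹(μ_n)` of an affine open of a smooth proper curve is `(ℤ/n) ^ (2g + r - 1)`. -/
theorem nonempty_H1_open {Y : Scheme.{u}} [Y.Over (Spec (CommRingCat.of k))]
    [IsProper (Y ↘ Spec (CommRingCat.of k))] [Smooth (Y ↘ Spec (CommRingCat.of k))] [IsIntegral Y]
    (hdim : topologicalKrullDim Y = 1) (V : Y.Opens) [IsAffine (V : Scheme.{u})] (hV : (V : Set Y).Nonempty)
    (hfin : ((V : Set Y)ᶜ).Finite) (hr : 1 ≤ Nat.card ↥((V : Set Y)ᶜ)) {n : ℕ} (hn : 1 ≤ n) (hnk : (n : k) ≠ 0) :
    Nonempty (EtCoh.H (V : Scheme.{u}) (EtCoh.mu (V : Scheme.{u}) n) 1 ≃+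
      (Fin (2 * Curv2.genus k Y + Nat.card ↥((V : Set Y)ᶜ) - 1) → ZMod n)) := by
  haveI : Nonempty (V : Scheme.{u}) := ⟨⟨hV.some, hV.some_mem⟩⟩
  haveI : IsIntegral (V : Scheme.{u}) := isIntegral_of_isOpenImmersion V.ι
  let R := 2 * Curv2.genus k Y + Nat.card ↥((V : Set Y)ᶜ) - 1
  let G := EtCoh.H (V : Scheme.{u}) (EtCoh.mu (V : Scheme.{u}) n) 1
  have hc : ∀ {d : ℕ}, 1 ≤ d → (d : k) ≠ 0 →
      Nat.card (EtCoh.H (V : Scheme.{u}) (EtCoh.mu (V : Scheme.{u}) d) 1) = d ^ R := fun {d} hd hdk => by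
    refine Nat.eq_of_mul_eq_mul_right (show 0 < d by omega) ((card_H1_open hdim V hV hfin hd hdk).trans ?_)
    rw [← pow_succ, ← pow_add]
    congr 1
    omega
  haveI : Finite G := Nat.finite_of_card_ne_zero (by rw [hc hn hnk]; exact pow_ne_zero _ (by omega))
  refine nonempty_addEquiv_zmod (show 0 < n by omega) (fun x => ?_) fun d hdn => ?_
  · exact (Dix24.comp_mk₀_nsmul_id n x).symm.trans (by rw [nsmul_id_mu, Ext.mk₀_zero, Ext.comp_zero])
  · obtain ⟨m, rfl⟩ := hdn
    have hd : 1 ≤ d := Nat.one_le_iff_ne_zero.2 fun h => by subst h; simp at hn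
    have hm : 1 ≤ m := Nat.one_le_iff_ne_zero.2 fun h => by subst h; simp at hn
    rw [card_nTor_H1_mu (V.ι ≫ Y ↘ Spec (CommRingCat.of k)) hd hm hnk]
    refine hc hd fun h => hnk ?_
    rw [Nat.cast_mul, h, zero_mul]

end Groth.Agent.CurveOpen32
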