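import Groth.Agent.Lib.CurveOpen32.Div
import Groth.Agent.Lib.CurveOpen32.Count
import Groth.Agent.Lib.CdField3.AffineCurve
import Groth.Agent.Lib.CurveH32.Pic
import Groth.Agent.Lib.CurveFin32.Base

/-!
# The Picard group and the units of an open piece of a smooth proper curve
-/

set_option autoImplicit false
set_option linter.style.haveILetI false
set_option linter.unusedSectionVars false
set_option maxHeartbeats 2000000
set_option backward.isDefEq.respectTransparency.types false

universe u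

open CategoryTheory AlgebraicGeometry TopologicalSpace

noncomputable section

namespace Groth.Agent.CurveOpen32

open Groth.Agent FunFldRH25

noncomputable local instance instLawOpen32 (Y : Scheme.{u}) : PicGrp.Law Y := M2.law Y

theorem card_nTor_congr {G H : Type*} [AddCommGroup G] [AddCommGroup H] (e : G ≃+ H) (n : ℕ) :
    Nat.card (nTor n G) = Nat.card (nTor n H) :=
  Nat.card_congr (e.toEquiv.subtypeEquiv fun x => by
    show n • x = 0 ↔ n • e x = 0
    rw [← map_nsmul, map_eq_zero_iff e e.injective])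

theorem card_quot_congr {G H : Type*} [AddCommGroup G] [AddCommGroup H] (e : G ≃+ H) (n : ℕ) :
    Nat.card (G ⧸ nMul n G) = Nat.card (H ⧸ nMul n H) := by
  refine Nat.card_congr (QuotientAddGroup.congr _ _ e ?_).toEquiv
  ext y
  constructor
  · rintro ⟨_, ⟨x, rfl⟩, rfl⟩
    exact ⟨e x, (map_nsmul e n x).symm⟩
  · rintro ⟨x, rfl⟩
    exact ⟨n • e.symm x, ⟨e.symm x, rfl⟩, by simp⟩

variable {k : Type u} [Field k] [IsAlgClosed k]

/-- The counting identity for an affine open `V` of a smooth proper curve `Y`. -/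
theorem card_pic_units {Y : Scheme.{u}} [Y.Over (Spec (CommRingCat.of k))]
    [IsProper (Y ↘ Spec (CommRingCat.of k))] [Smooth (Y ↘ Spec (CommRingCat.of k))] [IsIntegral Y]
    (hdim : topologicalKrullDim Y = 1) (V : Y.Opens) [IsAffine (V : Scheme.{u})] (hV : (V : Set Y).Nonempty)
    (hdimV : topologicalKrullDim (V : Scheme.{u}) = 1) (hfin : ((V : Set Y)ᶜ).Finite)
    {n : ℕ} (hn : 1 ≤ n) (hnk : (n : k) ≠ 0) :
    Nat.card (nTor n (Additive (PicLoc.PicSet (V : Scheme.{u})))) *
        Nat.card (Additive Γ((V : Scheme.{u}), ⊤)ˣ ⧸ nMul n (Additive Γ((V : Scheme.{u}), ⊤)ˣ)) * n =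
      n ^ (2 * Curv2.genus k Y) * n ^ Nat.card ↥((V : Set Y)ᶜ) := by
  classical
  let f := Y ↘ Spec (CommRingCat.of k)
  haveI : IsNoetherian Y := VB17.isNoetherian_of_over (k := k) (X := Y)
  haveI : Nonempty (V : Scheme.{u}) := ⟨⟨hV.some, hV.some_mem⟩⟩
  let U : Scheme.{u} := (V : Scheme.{u})
  haveI : IsIntegral U := isIntegral_of_isOpenImmersion V.ι
  haveI : LocallyOfFiniteType (V.ι ≫ f) := inferInstance
  haveI : IsLocallyNoetherian U := LocallyOfFiniteType.isLocallyNoetherian (V.ι ≫ f)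
  haveI : IsNoetherian U := ⟨⟩
  haveI : NeZero n := ⟨by omega⟩
  have hNY : Pi1.IsNormalScheme Y := normal_curve k hdim
  have hNU : Pi1.IsNormalScheme U := fun x => by
    haveI := (hNY (V.ι x)).1
    haveI := (hNY (V.ι x)).2
    have e := (asIso (V.ι.stalkMap x)).commRingCatIsoToRingEquiv
    exact ⟨MulEquiv.isDomain (Y.presheaf.stalk (V.ι x)) e.symm.toMulEquiv, IsIntegrallyClosed.of_equiv e⟩
  have hη : V.ι (genericPoint U) = genericPoint Y := genericPoint_eq_of_isOpenImmersion V.ι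
  let σ : Pt U → Pt Y := fun x => ⟨V.ι x.1, fun h => x.2 (V.ι.isOpenEmbedding.injective (h.trans hη.symm))⟩
  have hσ : Function.Injective σ := fun a b h =>
    Subtype.ext (V.ι.isOpenEmbedding.injective (show V.ι a.1 = V.ι b.1 from congrArg (fun z : Pt Y => z.1) h))
  let res : (Pt Y →₀ ℤ) →+ (Pt U →₀ ℤ) := Finsupp.comapDomain.addMonoidHom hσ
  have hres : ∀ D x, res D x = D (σ x) := fun D x => rfl
  let S := {y : Pt Y // y.1 ∉ V}
  have hηV : genericPoint Y ∈ V := ((genericPoint_spec Y).mem_open_set_iff V.2).2 ⟨hV.some, trivial, hV.some_mem⟩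
  let eS : S ≃ ↥((V : Set Y)ᶜ) :=
    { toFun := fun s => ⟨s.1.1, s.2⟩
      invFun := fun y => ⟨⟨y.1, fun h => y.2 (show y.1 ∈ (V : Set Y) by rw [h]; exact hηV)⟩, y.2⟩
      left_inv := fun s => rfl
      right_inv := fun y => rfl }
  haveI : Finite ↥((V : Set Y)ᶜ) := hfin.to_subtype
  haveI : Finite S := Finite.of_equiv _ eS.symm
  haveI : Fintype S := Fintype.ofFinite S
  have hrs : ∀ (y : Pt Y), y.1 ∈ V → ∃ x, σ x = y := fun y hy =>
    ⟨⟨⟨y.1, hy⟩, fun h => y.2 ((congrArg (fun z => V.ι z) h).trans hη)⟩, rfl⟩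
  let inc : (S → ℤ) →+ (Pt Y →₀ ℤ) :=
    (Finsupp.mapDomain.addMonoidHom Subtype.val).comp
      (Finsupp.linearEquivFunOnFinite ℤ ℤ S).symm.toLinearMap.toAddMonoidHom
  have hinc : ∀ a (s : S), inc a s.1 = a s := fun a s => by
    show Finsupp.mapDomain Subtype.val _ s.1 = _
    rw [Finsupp.mapDomain_apply Subtype.val_injective]
    rfl
  have hinc0 : ∀ a (y : Pt Y), y.1 ∈ V → inc a y = 0 := fun a y hy => by
    show Finsupp.mapDomain Subtype.val _ y = _
    exact Finsupp.mapDomain_of_notMem_range _ _ fun ⟨s, hs⟩ => s.2 (by rw [hs]; exact hy)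
  let supp : (Pt Y →₀ ℤ) →+ (S → ℤ) := AddMonoidHom.mk' (fun D s => D s.1) fun D E => rfl
  have hdecomp : ∀ D, res D = 0 → inc (supp D) = D := fun D hD => Finsupp.ext fun y => by
    by_cases hy : y.1 ∈ V
    · rw [hinc0 _ y hy]
      obtain ⟨x, rfl⟩ := hrs y hy
      exact (DFunLike.congr_fun hD x).symm
    · exact hinc _ ⟨y, hy⟩
  have hresinc : ∀ a, res (inc a) = 0 := fun a => Finsupp.ext fun x => hinc0 a (σ x) x.1.2
  let dY := divHom hNY hdim
  let dU := divHom hNU hdimV
  let ι : (Y.functionField)ˣ ≃* (U.functionField)ˣ :=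
    Units.mapEquiv (WDiv3.ffIso V.ι).commRingCatIsoToRingEquiv.toMulEquiv
  have hcomm : ∀ g : (Y.functionField)ˣ, res (dY (Additive.ofMul g)) = dU (Additive.ofMul (ι g)) := fun g =>
    Finsupp.ext fun x => (WDiv3.ord_ffIso V.ι x.1 (g : Y.functionField)).symm
  let P := (Pt Y →₀ ℤ) ⧸ dY.range
  let Q := (Pt U →₀ ℤ) ⧸ dU.range
  let φ : (S → ℤ) →+ P := (QuotientAddGroup.mk' dY.range).comp inc
  let π : P →+ Q := QuotientAddGroup.map _ _ res (by
    rintro _ ⟨g, rfl⟩
    exact ⟨Additive.ofMul (ι g.toMul), (hcomm g.toMul).symm⟩)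
  have hπ : Function.Surjective π := fun q => by
    obtain ⟨D, rfl⟩ := QuotientAddGroup.mk_surjective q
    exact ⟨QuotientAddGroup.mk (Finsupp.mapDomain σ D), congrArg QuotientAddGroup.mk
      (Finsupp.ext fun x => Finsupp.mapDomain_apply hσ D x)⟩
  have he : π.ker = φ.range := by
    ext p
    obtain ⟨D, rfl⟩ := QuotientAddGroup.mk_surjective p
    constructor
    · intro h
      obtain ⟨g, hg⟩ := (QuotientAddGroup.eq_zero_iff _).1 (AddMonoidHom.mem_ker.1 h)
      let g' : Additive (Y.functionField)ˣ := Additive.ofMul (ι.symm g.toMul)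
      have h0 : res (D - dY g') = 0 := by
        rw [map_sub, hcomm, MulEquiv.apply_symm_apply, ofMul_toMul, hg, sub_self]
      refine ⟨supp (D - dY g'), (QuotientAddGroup.eq).2 ⟨g', ?_⟩⟩
      show dY g' = -inc (supp (D - dY g')) + D
      rw [hdecomp _ h0]
      abel
    · rintro ⟨a, ha⟩
      rw [← ha]
      exact AddMonoidHom.mem_ker.2 (congrArg QuotientAddGroup.mk (hresinc a))
  let eP : P ≃+ Additive (PicLoc.PicSet Y) := (QuotientAddGroup.quotientAddEquivOfEq (by
    ext D; exact (clsHom_eq_zero_iff hNY hdim D).symm)).trans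
      (QuotientAddGroup.quotientKerEquivOfSurjective _ (clsHom_surjective hNY hdim))
  let eQ : Q ≃+ Additive (PicLoc.PicSet U) := (QuotientAddGroup.quotientAddEquivOfEq (by
    ext D; exact (clsHom_eq_zero_iff hNU hdimV D).symm)).trans
      (QuotientAddGroup.quotientKerEquivOfSurjective _ (clsHom_surjective hNU hdimV))
  have hQ : ∀ q : Q, ∃ q', n • q' = q := fun q => by
    obtain ⟨b, hb⟩ := CdField3.exists_pow_eq_pic_affine (V.ι ≫ f) hNU hdimV hn (eQ q).toMul
    exact ⟨eQ.symm (Additive.ofMul b), eQ.injective (by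
      rw [map_nsmul, AddEquiv.apply_symm_apply, ← ofMul_pow, hb, ofMul_toMul])⟩
  have hA : ∀ a : S → ℤ, n • a = 0 → a = 0 := fun a ha => funext fun s => by
    have h := congrFun ha s
    rw [Pi.smul_apply, nsmul_eq_mul, Pi.zero_apply, mul_eq_zero] at h
    exact h.resolve_left (by exact_mod_cast (NeZero.ne n))
  have key := card_torsion_mul φ π hπ he n hA hQ
  obtain ⟨⟨D, hDs, hDk⟩, htor⟩ := CurveH32.pic_structure k hdim (C := Y)
  obtain ⟨t⟩ := htor n hnk
  have hP : Nat.card (nTor n P) = n ^ (2 * Curv2.genus k Y) := by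
    rw [card_nTor_congr eP n]
    refine (Nat.card_congr ?_).trans ((Nat.card_congr (t.toEquiv.trans Multiplicative.toAdd)).trans
      (by rw [Nat.card_fun, Nat.card_zmod, Nat.card_fin]))
    exact Additive.toMul.subtypeEquiv fun x => by
      show n • x = 0 ↔ x.toMul ^ n = 1
      exact Iff.rfl
  have hPn : Nat.card (P ⧸ nMul n P) = n := by
    rw [card_quot_congr eP n]
    let ψ : Additive (PicLoc.PicSet Y) →+ ZMod n := (Int.castAddHom (ZMod n)).comp D
    have hψ : Function.Surjective ψ := fun c => by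
      obtain ⟨m, hm⟩ := ZMod.intCast_surjective c
      obtain ⟨x, hx⟩ := hDs m
      exact ⟨x, by simp [ψ, hx, hm]⟩
    have hk : ψ.ker = nMul n _ := by
      ext c
      constructor
      · intro hc
        obtain ⟨a, ha⟩ := (ZMod.intCast_zmod_eq_zero_iff_dvd _ n).1 (show ((D c : ℤ) : ZMod n) = 0 from hc)
        obtain ⟨x, hx⟩ := hDs a
        obtain ⟨y, hy⟩ := hDk (c - n • x) (by rw [map_sub, map_nsmul, hx, ha]; simp) n (by omega)
        exact ⟨x + y, by show n • (x + y) = c; rw [smul_add, hy, add_sub_cancel]⟩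
      · rintro ⟨y, rfl⟩
        show ψ (n • y) = 0
        rw [map_nsmul, nsmul_eq_mul, ZMod.natCast_self, zero_mul]
    rw [← hk, Nat.card_congr (QuotientAddGroup.quotientKerEquivOfSurjective ψ hψ).toEquiv, Nat.card_zmod]
  have hSn : Nat.card ((S → ℤ) ⧸ nMul n (S → ℤ)) = n ^ Nat.card ↥((V : Set Y)ᶜ) := by
    rw [card_fun_quot n, Nat.card_congr eS]
  have hUn : Nat.card (Additive Γ(U, ⊤)ˣ ⧸ nMul n (Additive Γ(U, ⊤)ˣ)) = Nat.card (φ.ker ⧸ nMul n φ.ker) := by
    let θ : Additive Γ(U, ⊤)ˣ →+ (Pt Y →₀ ℤ) :=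
      dY.comp (MonoidHom.toAdditive (ι.symm.toMonoidHom.comp (unitsHom (U := U))))
    have hθres : ∀ u, res (θ u) = 0 := fun u => by
      show res (dY (Additive.ofMul (ι.symm (unitsHom u.toMul)))) = 0
      rw [hcomm, MulEquiv.apply_symm_apply]
      exact (mem_range_unitsHom_iff hNU hdimV _).1 ⟨_, rfl⟩
    let ρ : Additive Γ(U, ⊤)ˣ →+ φ.ker := (supp.comp θ).codRestrict _ fun u => by
      show QuotientAddGroup.mk (inc (supp (θ u))) = 0
      rw [hdecomp _ (hθres u)]
      exact (QuotientAddGroup.eq_zero_iff _).2 ⟨_, rfl⟩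
    let χ : Additive Γ(U, ⊤)ˣ →+ φ.ker ⧸ nMul n φ.ker := (QuotientAddGroup.mk' _).comp ρ
    have hρ : Function.Surjective ρ := by
      rintro ⟨a, ha⟩
      obtain ⟨g, hg⟩ := (QuotientAddGroup.eq_zero_iff _).1 (AddMonoidHom.mem_ker.1 ha)
      obtain ⟨u, hu⟩ := (mem_range_unitsHom_iff hNU hdimV (ι g.toMul)).2 (by
        rw [← hcomm, ofMul_toMul, hg, hresinc])
      refine ⟨Additive.ofMul u, Subtype.ext (funext fun s => ?_)⟩
      show dY (Additive.ofMul (ι.symm (unitsHom u))) s.1 = a s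
      rw [hu, MulEquiv.symm_apply_apply, ofMul_toMul, hg, hinc]
    have hχ : Function.Surjective χ := (QuotientAddGroup.mk'_surjective _).comp hρ
    have hker : χ.ker = nMul n _ := by
      ext u
      constructor
      · intro h
        obtain ⟨l, hl⟩ := (QuotientAddGroup.eq_zero_iff _).1 (AddMonoidHom.mem_ker.1 h)
        obtain ⟨v, rfl⟩ := hρ l
        have hl' : n • ρ v = ρ u := hl
        have h1 : supp (θ (u - n • v)) = 0 := by
          have h2 : ρ (u - n • v) = 0 := by rw [map_sub, map_nsmul, hl', sub_self]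
          exact congrArg Subtype.val h2
        have h2 : θ (u - n • v) = 0 := by rw [← hdecomp _ (hθres _), h1, map_zero]
        obtain ⟨w, hw⟩ := (mem_range_unitsHom_iff hNY hdim _).2 h2
        obtain ⟨z, hz⟩ := (CurveFin32.units_props f (show 0 < n by omega)).1 w
        have hz0 : dY (Additive.ofMul (unitsHom z)) = 0 := (mem_range_unitsHom_iff hNY hdim _).1 ⟨z, rfl⟩
        obtain ⟨z', hz'⟩ := (mem_range_unitsHom_iff hNU hdimV (ι (unitsHom z))).2 (by rw [← hcomm, hz0, map_zero])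
        refine ⟨v + Additive.ofMul z', ?_⟩
        show n • (v + Additive.ofMul z') = u
        have h3 : n • Additive.ofMul z' = u - n • v := by
          refine Additive.toMul.injective (unitsHom_injective ?_)
          rw [toMul_nsmul, toMul_ofMul, map_pow, hz', ← map_pow, ← map_pow, hz, hw]
          exact ι.apply_symm_apply _
        rw [nsmul_add, h3, add_sub_cancel]
      · rintro ⟨v, rfl⟩
        refine AddMonoidHom.mem_ker.2 ((QuotientAddGroup.eq_zero_iff _).2 ⟨ρ v, ?_⟩)
        exact (map_nsmul ρ n v).symm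
    rw [← hker, Nat.card_congr (QuotientAddGroup.quotientKerEquivOfSurjective χ hχ).toEquiv]
  rw [hP, hPn, hSn, card_nTor_congr eQ n, ← hUn] at key
  exact key

end Groth.Agent.CurveOpen32
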